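import Groth.Agent.Sga3C.FlatImage
import Mathlib.AlgebraicGeometry.Group.Abelian

/-!
# Surjective homomorphisms of abelian varieties are flat and quasi-compact
-/

set_option autoImplicit false
universe u

open CategoryTheory CategoryTheory.Limits MonoidalCategory CartesianMonoidalCategory MonObj AlgebraicGeometry

namespace K999.AVFlat

variable (k : Type u) [Field k]

theorem flat_of_surjective {G H : Over (Spec (CommRingCat.of k))}
    [GrpObj G] [GrpObj H] (f : G ⟶ H) [IsMonHom f] [QuasiCompact f.left] [Surjective f.left]
    [IsReduced H.left] [IsLocallyNoetherian H.left] : Flat f.left := by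
  have h1 : Subsingleton ↥(Spec (CommRingCat.of k)) := inferInstanceAs (Subsingleton (PrimeSpectrum k))
  have h2 : ∀ X : Scheme.{u}, ∀ g : X ⟶ Spec (CommRingCat.of k), Flat g := fun X g => by
    infer_instance
  have h3 : Flat G.hom := h2 _ _
  have h4 : IsSchemeTheoreticallyDominant f.left := .of_isDominant _
  exact Groth.Agent.Sga3C.FlatImage.flat_of_flat_ker f (h2 _ _) f (𝟙 H) (Category.comp_id f)

section AV

variable {A B : Over (Spec (CommRingCat.of k))} [GrpObj A] [IsProper A.hom] [GeometricallyIntegral A.hom]
  [GrpObj B] [IsProper B.hom] [GeometricallyIntegral B.hom]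

omit [GrpObj A] [IsProper A.hom] in
theorem isIntegral_left : IsIntegral A.left :=
  GeometricallyIntegral.isIntegral_of_subsingleton A.hom

omit [GrpObj A] [GeometricallyIntegral A.hom] in
theorem isLocallyNoetherian_left : IsLocallyNoetherian A.left := by
  have : IsNoetherianRing (CommRingCat.of k) := inferInstanceAs (IsNoetherianRing k)
  exact LocallyOfFiniteType.isLocallyNoetherian (Y := Spec (CommRingCat.of k)) A.hom

omit [GrpObj A] [GeometricallyIntegral A.hom] [GrpObj B] [GeometricallyIntegral B.hom] in
theorem isProper_left (f : A ⟶ B) : IsProper f.left := by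
  have h : IsProper (f.left ≫ B.hom) := by rw [Over.w]; infer_instance
  exact IsProper.of_comp f.left B.hom

omit [GeometricallyIntegral A.hom] in
theorem flat_left (f : A ⟶ B) [IsMonHom f] (hf : Surjective f.left) : Flat f.left := by
  have := isProper_left k f
  have := isIntegral_left k (A := B)
  have := isLocallyNoetherian_left k (A := B)
  exact flat_of_surjective k f

end AV

end K999.AVFlat
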