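import Groth.Agent.ThetaGrp.K999.AVPush
import Groth.Agent.ThetaGrp.K999.AVFlat

/-!
# Orthogonality to the kernel and descent of theta points
-/

set_option autoImplicit false
universe u

open CategoryTheory CategoryTheory.Limits MonoidalCategory CartesianMonoidalCategory MonObj AlgebraicGeometry
open ThetaGrp K999.Cart K999.Rel K999.Ker K999.Act K999.EDesc K999.VIso K999.Scal K999.Mum K999.Sc K999.PtDesc
open Groth.Agent.Grpsch.PicGrp K529.KL

noncomputable section

namespace K999.Perp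

theorem pull_of_le {X : Scheme.{u}} {c : Pic X} {U V : X.Opens} (h : V ≤ U) (hU : pull U.ι c = 1) :
    pull V.ι c = 1 := by
  rw [← X.homOfLE_ι h, pull_comp, hU, map_one]

theorem exists_local₂ {X : Scheme.{u}} (c c' : Pic X) (x : X) :
    ∃ U : X.Opens, x ∈ U ∧ pull U.ι c = 1 ∧ pull U.ι c' = 1 := by
  obtain ⟨U, hx, hU⟩ := exists_local c x
  obtain ⟨U', hx', hU'⟩ := exists_local c' x
  exact ⟨U ⊓ U', ⟨hx, hx'⟩, pull_of_le inf_le_left hU, pull_of_le inf_le_right hU'⟩

section Field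

variable {k : Type u} [Field k] {A B : Over (Spec (CommRingCat.of k))} [GrpObj A] [GrpObj B]
  {L : A.left.Modules} {M : B.left.Modules}

/-- Theta points exist where the restriction of `L` along the point is trivial. -/
theorem exists_theta_of_trivial (hL : PicF.IsInvertible L) {T : Over (Spec (CommRingCat.of k))} {x : T ⟶ A}
    (hx : IsMumfordTriv A L x) (h : pl x (mk L hL) = 1) : ∃ β : thetaPts A L T, pt β = x := by
  rw [exists_theta_iff hL, (isMumfordTriv_iff hL x).mp hx, pl_comp, h, map_one, _root_.mul_one]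

/-- The Mumford condition is stable under base change. -/
theorem isMumfordTriv_comp (hL : PicF.IsInvertible L) {T T' : Over (Spec (CommRingCat.of k))} {x : T ⟶ A}
    (hx : IsMumfordTriv A L x) (h : T' ⟶ T) : IsMumfordTriv A L (h ≫ x) := by
  rw [isMumfordTriv_iff hL] at hx ⊢
  have h1 := congrArg (pl (A ◁ h)) hx
  rwa [map_mul, ← pl_comp, ← pl_comp, ← pl_comp, whiskerLeft_fst_mul, whiskerLeft_fst, whiskerLeft_snd_assoc] at h1

/-- Pull back of the Mumford condition along a homomorphism. -/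
theorem isMumfordTriv_pull (hM : PicF.IsInvertible M) (f : A ⟶ B) [IsMonHom f]
    {T : Over (Spec (CommRingCat.of k))} {x : T ⟶ A} (hx : IsMumfordTriv B M (x ≫ f)) :
    IsMumfordTriv A ((Scheme.Modules.pullback f.left).obj M) x := by
  rw [isMumfordTriv_iff hM] at hx
  rw [isMumfordTriv_iff (Groth.Agent.Fdesc.LocGen.isInvertible_pullback f.left hM)]
  have h1 := congrArg (pl (f ⊗ₘ 𝟙 T)) hx
  have e1 : (f ⊗ₘ 𝟙 T) ≫ (fst B T * (snd B T ≫ x ≫ f)) = (fst A T * (snd A T ≫ x)) ≫ f := by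
    rw [comp_mul, MonObj.mul_comp, tensorHom_fst, tensorHom_snd_assoc, Category.id_comp, Category.assoc]
  have e2 : (f ⊗ₘ 𝟙 T) ≫ snd B T ≫ x ≫ f = (snd A T ≫ x) ≫ f := by
    rw [tensorHom_snd_assoc, Category.id_comp, Category.assoc]
  rw [map_mul, ← pl_comp, ← pl_comp, ← pl_comp, e1, e2, tensorHom_fst, pl_comp, pl_comp, pl_comp] at h1
  exact h1

variable [IsCommMonObj A] [IsCommMonObj B] [IsProper A.hom] [GeometricallyIntegral A.hom] [IsProper B.hom]
  [GeometricallyIntegral B.hom]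

/-- Points over `K(M)` are orthogonal to the kernel. -/
theorem comm_of_mumford (hL : PicF.IsInvertible L) (hM : PicF.IsInvertible M) (m : PMor A B L M)
    {T : Over (Spec (CommRingCat.of k))} {β₁ β₂ : thetaPts A L T} (h₁ : IsMumfordTriv B M (pt β₁ ≫ m.f))
    (h₂ : pt β₂ ≫ m.f = 1) : β₁ * β₂ = β₂ * β₁ := by
  apply comm_of_local (AVPush.pushO A) hL
  intro t
  obtain ⟨U, ht, hU⟩ := exists_local (pl (pt β₁ ≫ m.f) (mk M hM)) t
  refine ⟨U, ht, ?_⟩
  obtain ⟨γ, hγ⟩ := exists_theta_of_trivial hM (isMumfordTriv_comp hM h₁ (oin T U)) (by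
    rw [pl_comp (oin T U)]; exact hU)
  have w : (oin T U ≫ pt β₁) ≫ m.f = pt γ := by rw [hγ, Category.assoc]
  have w₂ : (oin T U ≫ pt β₂) ≫ m.f = 1 := by rw [Category.assoc, h₂, MonObj.comp_one]
  have r₁ := rel_pb w
  have r₂ : Rel m (𝟙 _) (can m (oin T U ≫ pt β₂) w₂) 1 := rel_pb _
  have hc : Com γ 1 1 := by rw [com_one_iff, _root_.mul_one, _root_.one_mul]
  have hc' := (com_pb_iff (AVPush.pushO B) hM hL m r₁ r₂).mpr hc
  rw [← com_one_iff]
  exact com_of_pt (AVPush.pushO A) hL hc' (by rw [pt_bc, pt_pb]) (by rw [pt_bc, pt_can])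

omit [IsCommMonObj A] [IsCommMonObj B] [GeometricallyIntegral A.hom] in
/-- Theta points commuting with the canonical lifts of the kernel lie over points of `K(M)`. -/
theorem exists_desc_av (hM : PicF.IsInvertible M) (m : PMor A B L M) (hf : Surjective m.f.left)
    {T : Over (Spec (CommRingCat.of k))} {β : thetaPts A L T} (hβ : Comm m β) :
    ∃ γ : thetaPts B M T, Rel m (𝟙 T) β γ ∧ pt γ = pt β ≫ m.f := by
  have h1 : Flat m.f.left := K999.AVFlat.flat_left k m.f hf
  have h2 : IsProper m.f.left := K999.AVFlat.isProper_left k m.f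
  obtain ⟨γ, hγ⟩ := exists_desc m (Groth.Agent.Ega2.QCohLocal.isQCoh_of_isInvertible hM) hβ
  exact ⟨γ, hγ, by rw [rel_pt hγ, Category.id_comp]⟩

end Field

end K999.Perp
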