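import Groth.Agent.ThetaGrp.K999.Twist
import Groth.Agent.ThetaGrp.K999.Perp
import Groth.Agent.S0235

/-!
# Lifting finite isotropic subgroups to the theta group

* `pic_eq_one`: invertible modules on finite schemes over a field are trivial.
* `exists_klift`: over an algebraically closed field, a finite isotropic subgroup of `K(L)` lifts to the theta group.
-/

set_option autoImplicit false
universe u

open CategoryTheory CategoryTheory.Limits MonoidalCategory CartesianMonoidalCategory MonObj AlgebraicGeometry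
open ThetaGrp K999.Cart K999.Rel K999.Ker K999.Act K999.EDesc K999.VIso K999.Scal K999.Mum K999.Sc K999.PtDesc K999.Perp
open Groth.Agent.Grpsch.PicGrp K529.KL K999.Fun

noncomputable section

namespace K999.Isot

variable {k : Type u} [Field k]

theorem eq_one_of_pull_iso {X Y : Scheme.{u}} (f : X ⟶ Y) [IsIso f] {c : Pic Y} (h : pull f c = 1) : c = 1 := by
  have h1 : pull (inv f) (pull f c) = c := by
    rw [← pull_comp, IsIso.inv_hom_id, pull_id]
  rw [← h1, h, map_one]

/-- Invertible modules on finite schemes over a field are trivial. -/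
theorem pic_eq_one {N : Over (Spec (CommRingCat.of k))} [IsFinite N.hom] (c : Pic N.left) : c = 1 := by
  induction c using ind with | _ L hL => ?_
  have hs : Subsingleton ↥(Spec (CommRingCat.of k)) := inferInstanceAs (Subsingleton (PrimeSpectrum k))
  have hy : Nonempty ↥(Spec (CommRingCat.of k)) := inferInstanceAs (Nonempty (PrimeSpectrum k))
  obtain ⟨y⟩ := hy
  obtain ⟨V, hyV, ⟨e⟩⟩ := Groth.Agent.S0235.result N.hom L hL y
  have hV : V = ⊤ := by
    ext z
    rw [Subsingleton.elim z y]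
    exact ⟨fun _ => trivial, fun _ => hyV⟩
  subst hV
  have h1 : pull (N.hom ⁻¹ᵁ (⊤ : (Spec (CommRingCat.of k)).Opens)).ι (mk L hL) = 1 := by
    rw [pull_mk, mk_eq_one_iff]
    exact ⟨(Scheme.Modules.restrictFunctorIsoPullback _).symm.app L ≪≫ e⟩
  have h2 : IsIso (N.hom ⁻¹ᵁ (⊤ : (Spec (CommRingCat.of k)).Opens)).ι :=
    (Scheme.topIso_hom N.left) ▸ (inferInstanceAs (IsIso (Scheme.topIso N.left).hom))
  exact eq_one_of_pull_iso _ h1

section Lift

variable [IsAlgClosed k] {A N : Over (Spec (CommRingCat.of k))} [GrpObj A] [IsCommMonObj A] [IsProper A.hom]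
  [GeometricallyIntegral A.hom] [GrpObj N] [IsFinite N.hom] {L : A.left.Modules}

omit [IsAlgClosed k] [IsCommMonObj A] in
/-- Normalised theta point over a finite subgroup of `K(L)`. -/
theorem exists_theta_norm (hL : PicF.IsInvertible L) (i : N ⟶ A) [IsMonHom i] (hi : IsMumfordTriv A L i) :
    ∃ β : thetaPts A L N, pt β = i ∧ bc η β = 1 := by
  obtain ⟨β, hβ⟩ := exists_theta_of_trivial hL hi (pic_eq_one _)
  have h1 : pt (bc η β) = 1 := by
    rw [pt_bc, hβ, IsMonHom.one_hom]
    exact MonObj.one_eq_one A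
  obtain ⟨v, hv⟩ := exists_sc (AVPush.pushO A) hL h1
  refine ⟨sc A L (pu (toUnit N) v⁻¹) * β, ?_, ?_⟩
  · rw [pt_mul, pt_sc, _root_.mul_one, hβ]
  · rw [map_mul, bc_sc, pu_comp, hv, toUnit_unique (η ≫ toUnit N) (𝟙 _), pu_id, ← sc_mul, inv_mul_cancel, sc_one]

omit [IsAlgClosed k] [IsCommMonObj A] [IsProper A.hom] [GeometricallyIntegral A.hom] [IsFinite N.hom] in
theorem bc_mul_eq {β : thetaPts A L N} {c : Γ((N ⊗ N).left, ⊤)ˣ} (hc : bc (fst N N) β * bc (snd N N) β = sc A L c * bc μ β)
    {T : Over (Spec (CommRingCat.of k))} (x y : T ⟶ N) :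
    bc x β * bc y β = sc A L (pu (lift x y) c) * bc (x * y) β := by
  have h := congrArg (bc (lift x y)) hc
  rw [map_mul, map_mul, bc_bc, bc_bc, bc_bc, bc_sc, lift_fst, lift_snd] at h
  exact h

omit [IsAlgClosed k] [IsFinite N.hom] in
/-- The cocycle of a normalised theta point over an isotropic subgroup. -/
theorem exists_cocycle (hL : PicF.IsInvertible L) (i : N ⟶ A) [IsMonHom i] [Mono i] (hiso : IsIsotropic L i)
    {β : thetaPts A L N} (hβ : pt β = i) (hβ1 : bc η β = 1) :
    ∃ c : Cocycle N, ∀ {T : Over (Spec (CommRingCat.of k))} (x y : T ⟶ N),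
      bc x β * bc y β = sc A L (pu (lift x y) c.c) * bc (x * y) β := by
  have hcomm : ∀ {T : Over (Spec (CommRingCat.of k))} (x y : T ⟶ N), x * y = y * x := by
    intro T x y
    rw [← cancel_mono i, MonObj.mul_comp, MonObj.mul_comp, _root_.mul_comm]
  obtain ⟨c, hc⟩ := exists_sc_mul (β := bc (fst N N) β * bc (snd N N) β) (β' := bc μ β) (AVPush.pushO A) hL (by
    rw [pt_mul, pt_bc, pt_bc, pt_bc, hβ, ← MonObj.mul_comp, hcomm, MonObj.mul_eq_mul])
  have key := fun {T : Over (Spec (CommRingCat.of k))} (x y : T ⟶ N) => bc_mul_eq hc x y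
  have hpt : ∀ {T : Over (Spec (CommRingCat.of k))} (x : T ⟶ N), pt (bc x β) = x ≫ i := fun x => by rw [pt_bc, hβ]
  have hsymm : ∀ {T : Over (Spec (CommRingCat.of k))} (x y : T ⟶ N), pu (lift x y) c = pu (lift y x) c := by
    intro T x y
    have h := hiso T x y (bc x β) (bc y β) (over_iff.mpr (hpt x)) (over_iff.mpr (hpt y))
    rw [key, key, hcomm y x] at h
    exact sc_inj hL (mul_right_cancel h)
  have hassoc : ∀ {T : Over (Spec (CommRingCat.of k))} (x y z : T ⟶ N),
      pu (lift x y) c * pu (lift (x * y) z) c = pu (lift y z) c * pu (lift x (y * z)) c := by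
    intro T x y z
    have h : bc x β * bc y β * bc z β = bc x β * (bc y β * bc z β) := _root_.mul_assoc _ _ _
    rw [key x y, key y z, _root_.mul_assoc, key (x * y) z, ← _root_.mul_assoc (bc x β), ← sc_comm,
      _root_.mul_assoc (sc A L (pu (lift y z) c)), key x (y * z), ← _root_.mul_assoc, ← _root_.mul_assoc, ← sc_mul,
      ← sc_mul, _root_.mul_assoc x y z] at h
    exact sc_inj hL (mul_right_cancel h)
  have hone : ∀ {T : Over (Spec (CommRingCat.of k))} (y : T ⟶ N), pu (lift 1 y) c = 1 := by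
    intro T y
    have h1 : bc (1 : T ⟶ N) β = 1 := by
      have e : (1 : T ⟶ N) = toUnit T ≫ η := rfl
      rw [e, ← bc_bc, hβ1, map_one]
    have h := key 1 y
    rw [h1, _root_.one_mul, _root_.one_mul] at h
    apply sc_inj hL
    rw [sc_one]
    exact mul_right_cancel (h.symm.trans (_root_.one_mul _).symm)
  exact ⟨⟨c, fun x y => congrArg Units.val (hsymm x y), fun x y z => congrArg Units.val (hassoc x y z),
    fun y => congrArg Units.val (hone y)⟩, key⟩

instance isAffine_left {N : Over (Spec (CommRingCat.of k))} [IsFinite N.hom] : IsAffine N.left :=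
  isAffine_of_isAffineHom N.hom

instance finite_fn {N : Over (Spec (CommRingCat.of k))} [IsFinite N.hom] : Module.Finite k (Fn N) := by
  have h1 : (N.hom.appTop).hom.Finite := IsFinite.finite_app N.hom ⊤ (isAffineOpen_top _)
  have h2 : ((Scheme.ΓSpecIso (CommRingCat.of k)).inv.hom).Finite :=
    RingHom.Finite.of_surjective _ (ConcreteCategory.bijective_of_isIso (Scheme.ΓSpecIso (CommRingCat.of k)).inv).2
  exact h1.comp h2

/-- A finite isotropic subgroup of `K(L)` lifts to the theta group. -/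
theorem exists_klift (hL : PicF.IsInvertible L) (i : N ⟶ A) [IsMonHom i] [Mono i] (hi : IsMumfordTriv A L i)
    (hiso : IsIsotropic L i) : Nonempty (KL.KLift L i) := by
  have hcomm : ∀ {T : Over (Spec (CommRingCat.of k))} (x y : T ⟶ N), x * y = y * x := by
    intro T x y
    rw [← cancel_mono i, MonObj.mul_comp, MonObj.mul_comp, _root_.mul_comm]
  obtain ⟨β, hβ, hβ1⟩ := exists_theta_norm hL i hi
  obtain ⟨c₀, hc₀⟩ := exists_cocycle hL i hiso hβ hβ1
  obtain ⟨b₀, hb₀⟩ := c₀.exists_coboundary hcomm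
  obtain ⟨c, hc, b, hb'⟩ : ∃ c : Γ((N ⊗ N).left, ⊤)ˣ, (∀ {T : Over (Spec (CommRingCat.of k))} (x y : T ⟶ N),
      bc x β * bc y β = sc A L (pu (lift x y) c) * bc (x * y) β) ∧ ∃ b : Γ(N.left, ⊤)ˣ,
      ∀ {T : Over (Spec (CommRingCat.of k))} (x y : T ⟶ N), pu x b * pu y b = pu (lift x y) c * pu (x * y) b :=
    ⟨c₀.c, hc₀, b₀, fun x y => Units.ext (hb₀ x y)⟩
  refine ⟨⟨fun n => sc A L (pu n b)⁻¹ * bc n β, fun n => ?_, fun h n => ?_, fun x y => ?_⟩⟩
  · rw [pt_mul, pt_sc, pt_bc, hβ, _root_.mul_one]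
  · rw [map_mul, bc_sc, bc_bc, map_inv, pu_comp]
  · rw [hcomm x y]
    have e : sc A L (pu y b)⁻¹ * bc y β * (sc A L (pu x b)⁻¹ * bc x β) =
        sc A L (pu y b)⁻¹ * sc A L (pu x b)⁻¹ * (bc y β * bc x β) := by
      rw [_root_.mul_assoc, _root_.mul_assoc]
      congr 1
      rw [← _root_.mul_assoc, ← sc_comm, _root_.mul_assoc]
    rw [e, hc, ← _root_.mul_assoc, ← sc_mul, ← sc_mul]
    congr 2
    rw [← mul_inv, hb' y x, mul_inv, _root_.mul_comm _ (pu (y * x) b)⁻¹, _root_.mul_assoc, inv_mul_cancel,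
      _root_.mul_one]

end Lift

end K999.Isot
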