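import Groth.Agent.ThetaGrp.K999.Sc
import Groth.Agent.Grpsch.CubePush

/-!
# `O_T = q_* O_{A × T}` for proper geometrically integral schemes over a field
-/

set_option autoImplicit false
universe u

open CategoryTheory CategoryTheory.Limits MonoidalCategory CartesianMonoidalCategory MonObj AlgebraicGeometry
open K999.Sc

namespace K999.AVPush

variable {k : Type u} [Field k]

theorem pushO (A : Over (Spec (CommRingCat.of k))) [IsProper A.hom] [GeometricallyIntegral A.hom] : PushO A := by
  intro T
  have hsub : Subsingleton ↥(Spec (CommRingCat.of k)) := inferInstanceAs (Subsingleton (PrimeSpectrum k))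
  have hN : IsNoetherianRing (CommRingCat.of k) := inferInstanceAs (IsNoetherianRing k)
  have h1 : Flat A.hom := inferInstance
  have h2 : LocallyOfFinitePresentation A.hom := inferInstance
  have hp : IsPullback (fst A T).left (snd A T).left A.hom T.hom :=
    IsPullback.of_hasPullback _ _
  have h3 : IsProper (snd A T).left := MorphismProperty.of_isPullback hp inferInstance
  have h4 : Flat (snd A T).left := MorphismProperty.of_isPullback hp inferInstance
  have h5 : LocallyOfFinitePresentation (snd A T).left := MorphismProperty.of_isPullback hp inferInstance
  have h6 : GeometricallyIntegral (snd A T).left := MorphismProperty.of_isPullback hp inferInstance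
  exact Groth.Agent.Grpsch.CubeData.bijective_appTop (snd A T).left

end K999.AVPush
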