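import Groth.Agent.ThetaGrp.K999.Iso

/-!
# Descent of theta points along a faithfully flat homomorphism

`exists_desc`: a theta point of `L` commuting with the canonical lifts of the kernel of `(A, L) ⟶ (B, M)` comes
from a theta point of `M`.
-/

set_option autoImplicit false
universe u

open CategoryTheory CategoryTheory.Limits MonoidalCategory CartesianMonoidalCategory MonObj AlgebraicGeometry
open ThetaGrp K999.Cart K999.Rel K999.Ker K999.Act K999.EDesc K999.VIso K999.KL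

noncomputable section

namespace K999.PtDesc

variable {S : Scheme.{u}} {A B : Over S} [GrpObj A] [GrpObj B]
  {L : A.left.Modules} {M : B.left.Modules}

/-- The theta point commutes with the canonical lifts of the kernel, after any base change. -/
def Comm (m : PMor A B L M) {T : Over S} (β : thetaPts A L T) : Prop :=
  ∀ (T' : Over S) (h : T' ⟶ T) (x : T' ⟶ A) (w : x ≫ m.f = 1), can m x w * bc h β = bc h β * can m x w

theorem Comm.inv {m : PMor A B L M} {T : Over S} {β : thetaPts A L T} (hβ : Comm m β) : Comm m β⁻¹ := by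
  intro T' h x w
  rw [map_inv]
  exact ((Commute.inv_right (hβ T' h x w : Commute (can m x w) (bc h β))) : Commute _ _)

theorem act_comm {m : PMor A B L M} {T : Over S} {β : thetaPts A L T} (hβ : Comm m β) {T' : Over S}
    {K : T'.left.Modules} {a₁ a₂ : T' ⟶ A} {t : T' ⟶ T} {α₁ α₂ : ob T'.left K ⟶ ob A.left L}
    (h₁ : α₁.base = a₁.left) (h₂ : α₂.base = a₂.left) (h : α₁ ≫ m.c = α₂ ≫ m.c) (w : a₁ ≫ m.f = a₂ ≫ m.f) :
    act β a₁ t α₁ h₁ ≫ m.c = act β a₂ t α₂ h₂ ≫ m.c := by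
  have hx : (a₁⁻¹ * a₂) ≫ m.f = 1 := by
    rw [MonObj.mul_comp, GrpObj.inv_comp, w, inv_mul_cancel]
  have ha : a₁ * (a₁⁻¹ * a₂) = a₂ := mul_inv_cancel_left _ _
  have e₁ := eq_act_can m h₁ h₂ h (a₁⁻¹ * a₂) hx ha
  have hr : Rel m (𝟙 T') (can m (a₁⁻¹ * a₂) hx) 1 := rel_pb _
  have ha' : a₁ * (𝟙 T' ≫ pt (can m (a₁⁻¹ * a₂) hx)) = a₂ := by
    rw [pt_can, Category.id_comp, ha]
  have hbc₁ : act β a₁ t α₁ h₁ = act (bc t β) a₁ (𝟙 T') α₁ h₁ := by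
    rw [act_bc]
    exact act_congr rfl rfl (Category.id_comp t).symm rfl _
  have hbc₂ : act β a₂ t α₂ h₂ = act (bc t β) a₂ (𝟙 T') α₂ h₂ := by
    rw [act_bc]
    exact act_congr rfl rfl (Category.id_comp t).symm rfl _
  have e₂ : act (bc t β) a₂ (𝟙 T') α₂ h₂ = act (bc t β * can m (a₁⁻¹ * a₂) hx) a₁ (𝟙 T') α₁ h₁ := by
    rw [← act_act]
    exact act_congr rfl ha'.symm rfl e₁ _
  have e₃ : act (can m (a₁⁻¹ * a₂) hx * bc t β) a₁ (𝟙 T') α₁ h₁ ≫ m.c = act (bc t β) a₁ (𝟙 T') α₁ h₁ ≫ m.c := by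
    rw [← act_act, act_rel hr]
    exact act_one _
  rw [hbc₁, hbc₂, e₂, ← hβ T' t _ hx, e₃]

variable (m : PMor A B L M)

section

variable [Flat m.f.left] [Surjective m.f.left] [QuasiCompact m.f.left]

theorem props (T : Over S) :
    Flat (m.f ⊗ₘ 𝟙 T).left ∧ Surjective (m.f ⊗ₘ 𝟙 T).left ∧ QuasiCompact (m.f ⊗ₘ 𝟙 T).left := by
  have h : IsPullback (m.f ⊗ₘ 𝟙 T).left (fst A T).left (fst B T).left m.f.left := by
    have h1 : IsPullback (m.f ⊗ₘ 𝟙 T) (fst A T) (fst B T) m.f := by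
      refine ⟨⟨by rw [tensorHom_fst]⟩, ⟨?_⟩⟩
      refine PullbackCone.IsLimit.mk _ (fun s => lift s.snd (s.fst ≫ snd B T)) ?_ ?_ ?_
      · intro s
        apply CartesianMonoidalCategory.hom_ext
        · rw [Category.assoc, tensorHom_fst, lift_fst_assoc, s.condition]
        · rw [Category.assoc, tensorHom_snd, lift_snd_assoc, Category.comp_id]
      · intro s
        exact lift_fst _ _
      · intro s q hq₁ hq₂
        apply CartesianMonoidalCategory.hom_ext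
        · rw [lift_fst, hq₂]
        · rw [lift_snd, ← hq₁, Category.assoc, tensorHom_snd, Category.comp_id]
    exact h1.map (Over.forget S)
  exact ⟨MorphismProperty.of_isPullback h.flip inferInstance, MorphismProperty.of_isPullback h.flip inferInstance,
    MorphismProperty.of_isPullback h.flip inferInstance⟩

variable (hM : M.IsQuasicoherent) {T : Over S}

include hM in
theorem desc_aux (g : (B ⊗ T).left ⟶ (B ⊗ T).left) (θ : thetaObj A L T ⟶ thetaObj B M T)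
    (hθ : θ.base = (m.f ⊗ₘ 𝟙 T).left ≫ g)
    (H : ∀ (W : Scheme.{u}) (K : W.Modules) (α₁ α₂ : ob W K ⟶ thetaObj A L T),
      α₁ ≫ m.FF (𝟙 T) = α₂ ≫ m.FF (𝟙 T) → α₁ ≫ θ = α₂ ≫ θ) :
    ∃! ψ : thetaObj B M T ⟶ thetaObj B M T, ψ.base = g ∧ m.FF (𝟙 T) ≫ ψ = θ := by
  obtain ⟨h1, h2, h3⟩ := props m T
  have hMT : ((Scheme.Modules.pullback (fst B T).left).obj M).IsQuasicoherent :=
    Groth.Agent.CohqA.PullbackQCoh.isQuasicoherent_pullback _ _
  exact desc_arrow (m.f ⊗ₘ 𝟙 T).left (m.isCart_FF (𝟙 T)) (m.FF_base (𝟙 T)) g hθ H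

theorem desc_H {β : thetaPts A L T} (hβ : Comm m β) (W : Scheme.{u}) (K : W.Modules)
    (α₁ α₂ : ob W K ⟶ thetaObj A L T) (h : α₁ ≫ m.FF (𝟙 T) = α₂ ≫ m.FF (𝟙 T)) :
    α₁ ≫ β.1.hom ≫ m.FF (𝟙 T) = α₂ ≫ β.1.hom ≫ m.FF (𝟙 T) := by
  have hb : α₁.base ≫ (m.f ⊗ₘ 𝟙 T).left = α₂.base ≫ (m.f ⊗ₘ 𝟙 T).left := by
    have h1 : (α₁ ≫ m.FF (𝟙 T)).base = (α₂ ≫ m.FF (𝟙 T)).base := by rw [h]
    change α₁.base ≫ (m.FF (𝟙 T)).base = α₂.base ≫ (m.FF (𝟙 T)).base at h1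
    rwa [m.FF_base] at h1
  have hs : α₂.base ≫ (A ⊗ T).hom = α₁.base ≫ (A ⊗ T).hom := hom_w hb
  let T' : Over S := Over.mk (α₁.base ≫ (A ⊗ T).hom)
  let b₁ : T' ⟶ A ⊗ T := Over.homMk α₁.base rfl
  let b₂ : T' ⟶ A ⊗ T := Over.homMk α₂.base hs
  have hb' : b₁ ≫ (m.f ⊗ₘ 𝟙 T) = b₂ ≫ (m.f ⊗ₘ 𝟙 T) := Over.OverMorphism.ext hb
  have ha : (b₁ ≫ fst A T) ≫ m.f = (b₂ ≫ fst A T) ≫ m.f := by
    have h1 := congrArg (· ≫ fst B T) hb'
    simpa [tensorHom_fst] using h1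
  have ht : b₁ ≫ snd A T = b₂ ≫ snd A T := by
    have h1 := congrArg (· ≫ snd B T) hb'
    simpa [tensorHom_snd] using h1
  let β₁ : ob T'.left K ⟶ ob A.left L := α₁ ≫ pr A L T
  let β₂ : ob T'.left K ⟶ ob A.left L := α₂ ≫ pr A L T
  have h₁ : β₁.base = (b₁ ≫ fst A T).left := rfl
  have h₂ : β₂.base = (b₂ ≫ fst A T).left := rfl
  have hc : β₁ ≫ m.c = β₂ ≫ m.c := by
    change (α₁ ≫ pr A L T) ≫ m.c = (α₂ ≫ pr A L T) ≫ m.c
    rw [Category.assoc, Category.assoc, ← m.FF_pr (𝟙 T), ← Category.assoc, h, Category.assoc]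
  have e₁ : α₁ = lft (b₁ ≫ fst A T) (b₁ ≫ snd A T) β₁ h₁ := by
    refine lft_unique (Z := T') (α := β₁) (φ := α₁) h₁ ?_ ?_
    · change b₁.left = _
      rw [← comp_lift, lift_fst_snd, Category.comp_id]
    · rfl
  have e₂ : α₂ = lft (b₂ ≫ fst A T) (b₁ ≫ snd A T) β₂ h₂ := by
    refine lft_unique (Z := T') (α := β₂) (φ := α₂) h₂ ?_ ?_
    · change b₂.left = _
      rw [ht, ← comp_lift, lift_fst_snd, Category.comp_id]
    · rfl
  have key := act_comm (t := b₁ ≫ snd A T) hβ h₁ h₂ hc ha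
  have hβb : β.1.hom.base = (transl A (pt β)).left := over_pt β
  apply (isCart_pr B M T).ext
  · change α₁.base ≫ β.1.hom.base ≫ (m.FF (𝟙 T)).base = α₂.base ≫ β.1.hom.base ≫ (m.FF (𝟙 T)).base
    rw [hβb, m.FF_base, ← Over.comp_left, transl_square m.f (𝟙 T) (pt β) (pt β ≫ m.f) (Category.id_comp _).symm,
      Over.comp_left, ← Category.assoc, hb, Category.assoc]
  · have k₁ : ∀ α : ob W K ⟶ thetaObj A L T,
        (α ≫ β.1.hom ≫ m.FF (𝟙 T)) ≫ pr B M T = (α ≫ β.1.hom ≫ pr A L T) ≫ m.c := by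
      intro α
      simp only [Category.assoc]
      rw [m.FF_pr]
    rw [k₁, k₁]
    conv_lhs => rw [e₁]
    conv_rhs => rw [e₂]
    exact key

include hM in
theorem exists_hom {β : thetaPts A L T} (hβ : Comm m β) :
    ∃ ψ : thetaObj B M T ⟶ thetaObj B M T, ψ.base = (transl B (pt β ≫ m.f)).left ∧
      m.FF (𝟙 T) ≫ ψ = β.1.hom ≫ m.FF (𝟙 T) := by
  have hβb : β.1.hom.base = (transl A (pt β)).left := over_pt β
  obtain ⟨ψ, h, -⟩ := desc_aux m hM (transl B (pt β ≫ m.f)).left (β.1.hom ≫ m.FF (𝟙 T)) (by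
    change β.1.hom.base ≫ (m.FF (𝟙 T)).base = _
    rw [hβb, m.FF_base, ← Over.comp_left, transl_square m.f (𝟙 T) (pt β) (pt β ≫ m.f) (Category.id_comp _).symm,
      Over.comp_left]) (fun W K α₁ α₂ h => desc_H m hβ W K α₁ α₂ h)
  exact ⟨ψ, h⟩

include hM in
/-- Descent of theta points. -/
theorem exists_desc {β : thetaPts A L T} (hβ : Comm m β) : ∃ γ : thetaPts B M T, Rel m (𝟙 T) β γ := by
  obtain ⟨ψ, hψ₁, hψ₂⟩ := exists_hom m hM hβ
  obtain ⟨ψ', hψ₁', hψ₂'⟩ := exists_hom m hM hβ.inv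
  have hb : (pt β⁻¹ ≫ m.f) = (pt β ≫ m.f)⁻¹ := by rw [pt_inv, GrpObj.inv_comp]
  rw [hb] at hψ₁'
  obtain ⟨χ₀, -, huniq⟩ := desc_aux m hM (𝟙 _) (m.FF (𝟙 T)) (by rw [m.FF_base, Category.comp_id])
    (fun W K α₁ α₂ h => h)
  have hid : ∀ χ : thetaObj B M T ⟶ thetaObj B M T, χ.base = 𝟙 _ → m.FF (𝟙 T) ≫ χ = m.FF (𝟙 T) → χ = 𝟙 _ := by
    intro χ h1 h2
    rw [huniq χ ⟨h1, h2⟩, huniq (𝟙 _) ⟨rfl, Category.comp_id _⟩]
  have e1 : β.1.hom ≫ β⁻¹.1.hom = 𝟙 _ := by rw [← hom_mul, inv_mul_cancel, hom_one]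
  have e2 : β⁻¹.1.hom ≫ β.1.hom = 𝟙 _ := by rw [← hom_mul, mul_inv_cancel, hom_one]
  have h1 : ψ ≫ ψ' = 𝟙 _ := by
    apply hid
    · change ψ.base ≫ ψ'.base = _
      rw [hψ₁, hψ₁', ← Over.comp_left, ← transl_mul, mul_inv_cancel, transl_one]
      rfl
    · rw [← Category.assoc, hψ₂, Category.assoc, hψ₂', ← Category.assoc, e1, Category.id_comp]
  have h2 : ψ' ≫ ψ = 𝟙 _ := by
    apply hid
    · change ψ'.base ≫ ψ.base = _
      rw [hψ₁, hψ₁', ← Over.comp_left, ← transl_mul, inv_mul_cancel, transl_one]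
      rfl
    · rw [← Category.assoc, hψ₂', Category.assoc, hψ₂, ← Category.assoc, e2, Category.id_comp]
  let γ : thetaPts B M T := ⟨(Iso.mk ψ ψ' h1 h2 : thetaObj B M T ≅ thetaObj B M T), pt β ≫ m.f, hψ₁⟩
  exact ⟨γ, hψ₂.symm⟩

end

end K999.PtDesc
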