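import Groth.Agent.ThetaGrp.K999.Scal
import Groth.Agent.ThetaGrp.K999.PtDesc

/-!
# Scalar theta points

* `sc L v : thetaPts A L T` for a unit `v` on `T`: central, compatible with base change and pull back.
* `exists_sc`: theta points over the unit point are scalars (when `O_T = q_* O`).
* `Com β₁ β₂ v`: the commutator of `β₁`, `β₂` is the scalar `v`.
-/

set_option autoImplicit false
universe u

open CategoryTheory CategoryTheory.Limits MonoidalCategory CartesianMonoidalCategory MonObj AlgebraicGeometry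
open ThetaGrp K999.Cart K999.Rel K999.Ker K999.Act K999.EDesc K999.VIso K999.Scal K999.Mum

noncomputable section

namespace K999.Sc

variable {S : Scheme.{u}} {A B : Over S} [GrpObj A] [GrpObj B]
  {L : A.left.Modules} {M : B.left.Modules}

/-- Pull back of global functions. -/
abbrev pf {T' T : Over S} (h : T' ⟶ T) : Γ(T.left, ⊤) →* Γ(T'.left, ⊤) := (h.left.appTop.hom : _ →* _)

theorem pf_comp {T'' T' T : Over S} (h' : T'' ⟶ T') (h : T' ⟶ T) (v : Γ(T.left, ⊤)) :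
    pf h' (pf h v) = pf (h' ≫ h) v := by
  change (h'.left.appTop.hom) (h.left.appTop.hom v) = ((h' ≫ h).left.appTop.hom) v
  rw [Over.comp_left, Scheme.Hom.comp_appTop]
  rfl

theorem pf_id {T : Over S} (v : Γ(T.left, ⊤)) : pf (𝟙 T) v = v := by
  change ((𝟙 T.left : T.left ⟶ T.left).appTop.hom) v = v
  simp

/-- Pull back of units. -/
abbrev pu {T' T : Over S} (h : T' ⟶ T) : Γ(T.left, ⊤)ˣ →* Γ(T'.left, ⊤)ˣ := Units.map (pf h)

theorem pu_comp {T'' T' T : Over S} (h' : T'' ⟶ T') (h : T' ⟶ T) (v : Γ(T.left, ⊤)ˣ) :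
    pu h' (pu h v) = pu (h' ≫ h) v := Units.ext (pf_comp h' h v)

theorem pu_id {T : Over S} (v : Γ(T.left, ⊤)ˣ) : pu (𝟙 T) v = v := Units.ext (pf_id v.1)

/-- The automorphism of `(A × T, L_T)` defined by a unit on `A × T`. -/
def muIso (A : Over S) [GrpObj A] (L : A.left.Modules) (T : Over S) (w : Γ((A ⊗ T).left, ⊤)ˣ) :
    thetaObj A L T ≅ thetaObj A L T where
  hom := mu _ w.1
  inv := mu _ (w⁻¹).1
  hom_inv_id := by rw [← mu_mul, Units.mul_inv, mu_one]
  inv_hom_id := by rw [← mu_mul, Units.inv_mul, mu_one]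

/-- The scalar theta point. -/
def sc (A : Over S) [GrpObj A] (L : A.left.Modules) {T : Over S} (v : Γ(T.left, ⊤)ˣ) : thetaPts A L T :=
  ⟨muIso A L T (pu (snd A T) v), 1, by rw [transl_one]; rfl⟩

theorem sc_hom {T : Over S} (v : Γ(T.left, ⊤)ˣ) : (sc A L v).1.hom = mu _ (pf (snd A T) v.1) := rfl

theorem over_sc {T : Over S} (v : Γ(T.left, ⊤)ˣ) : IsOverPt (sc A L v) 1 := by
  change (𝟙 _ : (A ⊗ T).left ⟶ (A ⊗ T).left) = _
  rw [transl_one]
  rfl

theorem pt_sc {T : Over S} (v : Γ(T.left, ⊤)ˣ) : pt (sc A L v) = 1 := over_iff.mp (over_sc v)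

theorem sc_mul {T : Over S} (v w : Γ(T.left, ⊤)ˣ) : sc A L (v * w) = sc A L v * sc A L w := by
  apply ext_hom
  rw [hom_mul, sc_hom, sc_hom, sc_hom, ← mu_mul, Units.val_mul, ← map_mul, _root_.mul_comm]

theorem sc_one {T : Over S} : sc A L (1 : Γ(T.left, ⊤)ˣ) = 1 := by
  apply ext_hom
  rw [sc_hom, hom_one, Units.val_one, map_one, mu_one]

theorem sc_inv {T : Over S} (v : Γ(T.left, ⊤)ˣ) : sc A L v⁻¹ = (sc A L v)⁻¹ := by
  rw [eq_inv_iff_mul_eq_one, ← sc_mul, inv_mul_cancel, sc_one]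

/-- Scalars are central. -/
theorem sc_comm {T : Over S} (v : Γ(T.left, ⊤)ˣ) (β : thetaPts A L T) : sc A L v * β = β * sc A L v := by
  apply ext_hom
  rw [hom_mul, hom_mul, sc_hom, mu_nat]
  congr 2
  have hb : β.1.hom.base = (transl A (pt β)).left := over_pt β
  have h : pf (transl A (pt β)) (pf (snd A T) v.1) = pf (snd A T) v.1 := by
    rw [pf_comp, tr_snd]
  rw [hb]
  exact h

/-- Scalars pull back to scalars. -/
theorem rel_sc (m : PMor A B L M) {T T' : Over S} (g : T' ⟶ T) (v : Γ(T.left, ⊤)ˣ) :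
    Rel m g (sc A L (pu g v)) (sc B M v) := by
  change (sc A L (pu g v)).1.hom ≫ m.FF g = m.FF g ≫ (sc B M v).1.hom
  rw [sc_hom, sc_hom, mu_nat]
  congr 2
  have h : pf (m.f ⊗ₘ g) (pf (snd B T) v.1) = pf (snd A T') (pf g v.1) := by
    rw [pf_comp, pf_comp, tensorHom_snd]
  rw [m.FF_base]
  exact h.symm

theorem bc_sc {T T' : Over S} (g : T' ⟶ T) (v : Γ(T.left, ⊤)ˣ) : bc g (sc A L v) = sc A L (pu g v) :=
  (rel_id_iff_bc.mp (rel_sc (PMor.id A L) g v)).symm

theorem sc_inj (hL : PicF.IsInvertible L) {T : Over S} {v w : Γ(T.left, ⊤)ˣ} (h : sc A L v = sc A L w) :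
    v = w := by
  have h1 : mu ((Scheme.Modules.pullback (fst A T).left).obj L) (pf (snd A T) v.1) =
      mu _ (pf (snd A T) w.1) := by
    rw [← sc_hom, ← sc_hom, h]
  have h2 := mu_inj (Groth.Agent.Fdesc.LocGen.isInvertible_pullback _ hL) h1
  have h3 := congrArg (pf (lift (1 : T ⟶ A) (𝟙 T))) h2
  rw [pf_comp, pf_comp, lift_snd, pf_id, pf_id] at h3
  exact Units.ext h3

/-- The condition `O_T = q_* O_{A × T}` on global sections, for all `T`. -/
def PushO (A : Over S) : Prop := ∀ T : Over S, Function.Bijective (pf (snd A T))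

/-- Theta points over the unit point are scalars. -/
theorem exists_sc (hA : PushO A) (hL : PicF.IsInvertible L) {T : Over S} {β : thetaPts A L T} (h : pt β = 1) :
    ∃ v, β = sc A L v := by
  have key : ∀ γ : thetaPts A L T, pt γ = 1 → ∃ v : Γ(T.left, ⊤), γ.1.hom = mu _ (pf (snd A T) v) := by
    intro γ hγ
    have hb : γ.1.hom.base = 𝟙 _ := by
      have h1 : γ.1.hom.base = (transl A (pt γ)).left := over_pt γ
      rw [h1, hγ, transl_one]
      rfl
    obtain ⟨w, hw⟩ := exists_mu (Groth.Agent.Fdesc.LocGen.isInvertible_pullback _ hL) γ.1.hom hb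
    obtain ⟨v, rfl⟩ := (hA T).2 w
    exact ⟨v, hw⟩
  obtain ⟨v, hv⟩ := key β h
  obtain ⟨w, hw⟩ := key β⁻¹ (by rw [pt_inv, h, inv_one])
  have h1 : v * w = 1 := by
    have e : β.1.hom ≫ β⁻¹.1.hom = 𝟙 _ := by rw [← hom_mul, inv_mul_cancel, hom_one]
    rw [hv, hw, ← mu_mul, ← mu_one, ← map_mul] at e
    have e2 := mu_inj (Groth.Agent.Fdesc.LocGen.isInvertible_pullback _ hL) e
    exact (hA T).1 (e2.trans (map_one _).symm)
  exact ⟨⟨v, w, h1, by rw [_root_.mul_comm, h1]⟩, ext_hom hv⟩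

/-- Theta points over the same point differ by scalars. -/
theorem exists_sc_mul (hA : PushO A) (hL : PicF.IsInvertible L) {T : Over S} {β β' : thetaPts A L T}
    (h : pt β = pt β') : ∃ v, β = sc A L v * β' := by
  obtain ⟨v, hv⟩ := exists_sc (β := β * β'⁻¹) hA hL (by rw [pt_mul, pt_inv, h, inv_mul_cancel])
  exact ⟨v, by rw [← hv, inv_mul_cancel_right]⟩

/-- The commutator of two theta points is the scalar `v`. -/
def Com {T : Over S} (β₁ β₂ : thetaPts A L T) (v : Γ(T.left, ⊤)ˣ) : Prop := β₁ * β₂ = sc A L v * (β₂ * β₁)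

section Com

variable {T : Over S} {β₁ β₂ : thetaPts A L T}

theorem exists_com [IsCommMonObj A] (hA : PushO A) (hL : PicF.IsInvertible L) (β₁ β₂ : thetaPts A L T) :
    ∃ v, Com β₁ β₂ v :=
  exists_sc_mul hA hL (by rw [pt_mul, pt_mul, _root_.mul_comm])

theorem com_unique (hL : PicF.IsInvertible L) {v w : Γ(T.left, ⊤)ˣ} (h : Com β₁ β₂ v) (h' : Com β₁ β₂ w) : v = w := by
  rw [Com] at h h'
  rw [h] at h'
  exact sc_inj hL (mul_right_cancel h')

theorem com_one_iff : Com β₁ β₂ 1 ↔ β₁ * β₂ = β₂ * β₁ := by rw [Com, sc_one, _root_.one_mul]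

theorem com_bc {T' : Over S} (g : T' ⟶ T) {v : Γ(T.left, ⊤)ˣ} (h : Com β₁ β₂ v) :
    Com (bc g β₁) (bc g β₂) (pu g v) := by
  rw [Com] at *
  rw [← map_mul, h, map_mul, map_mul, bc_sc]

theorem com_sc_left {v w : Γ(T.left, ⊤)ˣ} (h : Com β₁ β₂ v) : Com (sc A L w * β₁) β₂ v := by
  rw [Com] at *
  calc sc A L w * β₁ * β₂ = sc A L w * (β₁ * β₂) := _root_.mul_assoc _ _ _
    _ = sc A L v * (sc A L w * (β₂ * β₁)) := by
        rw [h, ← _root_.mul_assoc, sc_comm w, _root_.mul_assoc]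
    _ = sc A L v * (β₂ * (sc A L w * β₁)) := by
        rw [← _root_.mul_assoc (sc A L w), sc_comm w β₂, _root_.mul_assoc β₂]

theorem com_sc_right {v w : Γ(T.left, ⊤)ˣ} (h : Com β₁ β₂ v) : Com β₁ (sc A L w * β₂) v := by
  rw [Com] at *
  calc β₁ * (sc A L w * β₂) = sc A L w * (β₁ * β₂) := by
        rw [← _root_.mul_assoc, ← sc_comm w β₁, _root_.mul_assoc]
    _ = sc A L v * (sc A L w * (β₂ * β₁)) := by
        rw [h, ← _root_.mul_assoc, sc_comm w, _root_.mul_assoc]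
    _ = sc A L v * (sc A L w * β₂ * β₁) := by rw [_root_.mul_assoc (sc A L w)]

/-- The commutator depends only on the points. -/
theorem com_of_pt (hA : PushO A) (hL : PicF.IsInvertible L) {β₁' β₂' : thetaPts A L T} {v : Γ(T.left, ⊤)ˣ}
    (h : Com β₁ β₂ v) (h₁ : pt β₁' = pt β₁) (h₂ : pt β₂' = pt β₂) : Com β₁' β₂' v := by
  obtain ⟨w₁, rfl⟩ := exists_sc_mul hA hL h₁
  obtain ⟨w₂, rfl⟩ := exists_sc_mul hA hL h₂
  exact com_sc_left (com_sc_right h)

theorem com_rel [IsCommMonObj A] (m : PMor A B L M) {T' : Over S} {g : T' ⟶ T} {γ₁ γ₂ : thetaPts A L T'}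
    {β₁ β₂ : thetaPts B M T} (h₁ : Rel m g γ₁ β₁) (h₂ : Rel m g γ₂ β₂) {v : Γ(T.left, ⊤)ˣ} (h : Com β₁ β₂ v) :
    Com γ₁ γ₂ (pu g v) := by
  rw [Com] at *
  have e := rel_mul (rel_sc m g v) (rel_mul h₂ h₁)
  rw [← h] at e
  exact rel_unique (rel_mul h₁ h₂) e (by
    rw [pt_mul, pt_mul, pt_mul, pt_sc, _root_.mul_one, _root_.mul_comm])

/-- The commutator of two theta points of `M` is the one of their pull backs. -/
theorem com_pb_iff [IsCommMonObj A] [IsCommMonObj B] (hB : PushO B) (hM : PicF.IsInvertible M)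
    (hL : PicF.IsInvertible L) (m : PMor A B L M) {γ₁ γ₂ : thetaPts A L T} {β₁ β₂ : thetaPts B M T}
    (h₁ : Rel m (𝟙 T) γ₁ β₁) (h₂ : Rel m (𝟙 T) γ₂ β₂) {v : Γ(T.left, ⊤)ˣ} : Com γ₁ γ₂ v ↔ Com β₁ β₂ v := by
  constructor
  · intro h
    obtain ⟨w, hw⟩ := exists_com hB hM β₁ β₂
    have h' := com_rel m h₁ h₂ hw
    rw [pu_id] at h'
    rwa [com_unique hL h h']
  · intro h
    have h' := com_rel m h₁ h₂ h
    rwa [pu_id] at h'

end Com

section Local

variable {T : Over S}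

/-- Units are determined locally. -/
theorem unit_ext {v w : Γ(T.left, ⊤)ˣ}
    (h : ∀ t : T.left, ∃ U : T.left.Opens, t ∈ U ∧ pu (oin T U) v = pu (oin T U) w) : v = w := by
  choose U hU h using h
  apply Units.ext
  have hcov : (⊤ : T.left.Opens) ≤ ⨆ x, U x := fun x _ => TopologicalSpace.Opens.mem_iSup.mpr ⟨x, hU x⟩
  refine Groth.Agent.Fdesc.LocGen.ores_ext U (fun x => le_top) hcov fun x => ?_
  have h1 := congrArg Units.val (h x)
  change ((U x).ι.appTop.hom v.1) = ((U x).ι.appTop.hom w.1) at h1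
  rw [Scheme.Opens.ι_appTop] at h1
  have e : U x ≤ (U x).ι ''ᵁ ⊤ := by rw [Scheme.Opens.ι_image_top]
  have h2 := congrArg (Groth.Agent.Fdesc.LocGen.ores e) h1
  change Groth.Agent.Fdesc.LocGen.ores e (Groth.Agent.Fdesc.LocGen.ores le_top v.1) =
    Groth.Agent.Fdesc.LocGen.ores e (Groth.Agent.Fdesc.LocGen.ores le_top w.1) at h2
  rwa [Groth.Agent.Fdesc.LocGen.ores_ores, Groth.Agent.Fdesc.LocGen.ores_ores] at h2

/-- Local determination of commutators. -/
theorem com_of_local [IsCommMonObj A] (hA : PushO A) (hL : PicF.IsInvertible L) {β₁ β₂ : thetaPts A L T}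
    {v : Γ(T.left, ⊤)ˣ}
    (h : ∀ t : T.left, ∃ U : T.left.Opens, t ∈ U ∧ Com (bc (oin T U) β₁) (bc (oin T U) β₂) (pu (oin T U) v)) :
    Com β₁ β₂ v := by
  obtain ⟨w, hw⟩ := exists_com hA hL β₁ β₂
  have e : v = w := by
    apply unit_ext
    intro t
    obtain ⟨U, ht, hU⟩ := h t
    exact ⟨U, ht, com_unique hL hU (com_bc _ hw)⟩
  rwa [e]

theorem comm_of_local [IsCommMonObj A] (hA : PushO A) (hL : PicF.IsInvertible L) {β₁ β₂ : thetaPts A L T}
    (h : ∀ t : T.left, ∃ U : T.left.Opens, t ∈ U ∧ bc (oin T U) β₁ * bc (oin T U) β₂ = bc (oin T U) β₂ * bc (oin T U) β₁) :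
    β₁ * β₂ = β₂ * β₁ := by
  rw [← com_one_iff]
  apply com_of_local hA hL
  intro t
  obtain ⟨U, ht, hU⟩ := h t
  refine ⟨U, ht, ?_⟩
  rw [map_one, com_one_iff]
  exact hU

end Local

end K999.Sc
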