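import Groth.Agent.ThetaGrp.K999.KLift
import Groth.Agent.Pic13.H602.InvDesc
import Groth.Agent.Ega2.QCohLocal

/-!
# Vertical arrows and isomorphisms; invertibility of the descended module
-/

set_option autoImplicit false
universe u

open CategoryTheory CategoryTheory.Limits MonoidalCategory CartesianMonoidalCategory MonObj AlgebraicGeometry
open ThetaGrp K999.Cart K999.Rel K999.Ker K999.Act K999.EDesc

noncomputable section

namespace K999.VIso

section

variable {X Y Z : Scheme.{u}} {L L' : X.Modules} {M : Y.Modules}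

theorem exists_vert (χ : ob X L ⟶ ob X L') (h : χ.base = 𝟙 X) : ∃ ψ : L ⟶ L', vert ψ = χ := by
  refine ⟨fib χ (𝟙 X) h ≫ (Scheme.Modules.pullbackId X).hom.app L', ?_⟩
  rw [vert_eq, Category.assoc, Iso.hom_inv_id_app]
  exact (congrArg (arr (𝟙 X)) (Category.comp_id _)).trans (arr_fib _ _ _)

/-- A vertical arrow which is an isomorphism comes from an isomorphism. -/
theorem exists_iso (χ : ob X L ⟶ ob X L') (h : χ.base = 𝟙 X) (hχ : IsCart χ) : ∃ e : L ≅ L', vert e.hom = χ := by
  have hi : IsIso χ := hχ.isIso (by rw [h]; infer_instance)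
  have hb : (inv χ).base = 𝟙 X := by
    have h1 : (χ ≫ inv χ).base = 𝟙 X := by rw [IsIso.hom_inv_id]; rfl
    have h2 : χ.base ≫ (inv χ).base = 𝟙 X := h1
    rwa [h, Category.id_comp] at h2
  obtain ⟨φ, hφ⟩ := exists_vert χ h
  obtain ⟨ψ, hψ⟩ := exists_vert (inv χ) hb
  refine ⟨⟨φ, ψ, ?_, ?_⟩, hφ⟩
  · apply vert_inj
    rw [← vert_comp, hφ, hψ, IsIso.hom_inv_id, vert_id]
  · apply vert_inj
    rw [← vert_comp, hφ, hψ, IsIso.inv_hom_id, vert_id]

/-- Two cartesian arrows with the same target and base: the sources are isomorphic. -/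
theorem exists_iso_of_cart {f : X ⟶ Y} {c : ob X L ⟶ ob Y M} {c' : ob X L' ⟶ ob Y M} (hc : IsCart c)
    (hc' : IsCart c') (hb : c.base = f) (hb' : c'.base = f) : ∃ e : L ≅ L', vert e.hom ≫ c' = c := by
  have w : c.base = 𝟙 X ≫ c'.base := by
    rw [hb, hb']
    exact (Category.id_comp f).symm
  let χ : ob X L ⟶ ob X L' := hc'.lift (a' := ob X L) (𝟙 X) c w
  have h1 : χ.base = 𝟙 X := hc'.lift_base _ _ _
  have h2 : χ ≫ c' = c := hc'.lift_comp _ _ _
  obtain ⟨e, he⟩ := exists_iso χ h1 (hc'.of_comp (by rw [h2]; exact hc))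
  exact ⟨e, by rw [he, h2]⟩

end

section

variable {S : Scheme.{u}} {A B N : Over S} [GrpObj A] [GrpObj B] [GrpObj N]
  {L : A.left.Modules} {M : B.left.Modules}

theorem exists_iso_pmor (m : PMor A B L M) :
    ∃ e : (Scheme.Modules.pullback m.f.left).obj M ≅ L, vert e.hom ≫ m.c = cart m.f.left M :=
  exists_iso_of_cart (isCart_cart _ _) m.cart rfl m.hc

theorem isInvertible_of_iso {X : Scheme.{u}} {L M : X.Modules} (e : L ≅ M) (hL : PicF.IsInvertible L) :
    PicF.IsInvertible M := by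
  intro x
  obtain ⟨U, hx, ⟨i⟩⟩ := hL x
  exact ⟨U, hx, ⟨(Scheme.Modules.restrictFunctor U.ι).mapIso e.symm ≪≫ i⟩⟩

/-- Invertibility descends. -/
theorem isInvertible_of_pmor (m : PMor A B L M) [Flat m.f.left] [Surjective m.f.left] [QuasiCompact m.f.left]
    (hL : PicF.IsInvertible L) (hM : M.IsQuasicoherent) : PicF.IsInvertible M := by
  obtain ⟨e, -⟩ := exists_iso_pmor m
  exact Groth.Agent.Pic13.H602.InvDesc.isInvertible_of_single m.f.left M hM (isInvertible_of_iso e.symm hL)

/-- Descent of invertible modules along a faithfully flat homomorphism with kernel `N`. -/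
theorem exists_descent_inv (f : A ⟶ B) [IsMonHom f] [Flat f.left] [Surjective f.left] [QuasiCompact f.left]
    {i : N ⟶ A} [IsMonHom i] (hN : AlgGrp.IsKernel i f) (hL : PicF.IsInvertible L) (s : KL.KLift L i) :
    ∃ (M : B.left.Modules) (m : PMor A B L M) (hf : m.f = f), PicF.IsInvertible M ∧
      ∀ {T : Over S} (n : T ⟶ N), s.σ n = can m (n ≫ i) (by rw [hf]; exact ker_comp hN n) := by
  have hL' : L.IsQuasicoherent := Groth.Agent.Ega2.QCohLocal.isQCoh_of_isInvertible hL
  obtain ⟨M, m, rfl, hM, h⟩ := KL.exists_descent f hN hL' s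
  exact ⟨M, m, rfl, isInvertible_of_pmor m hL hM, h⟩

end

section Level

variable {S : Scheme.{u}} {A B N G : Over S} [GrpObj A] [GrpObj N] [GrpObj G] {L : A.left.Modules}

/-- The family of lifts defined by a homomorphism to the theta group. -/
def kliftOfHom [IsCommMonObj A] {u : thetaPts A L G} (hG : IsThetaGrpSch A L G u) {i : N ⟶ A} [IsMonHom i] [Mono i]
    (j : N ⟶ G) [IsMonHom j] (hj : ∀ (T : Over S) (n : T ⟶ N), pt (bc (n ≫ j) u) = n ≫ i) : KL.KLift L i where
  σ n := bc (n ≫ j) u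
  pt_σ n := hj _ n
  bc_σ h n := by rw [bc_bc, Category.assoc]
  σ_mul {T} n₁ n₂ := by
    have h : n₁ * n₂ = n₂ * n₁ := by
      rw [← cancel_mono i, MonObj.mul_comp, MonObj.mul_comp, _root_.mul_comm]
    rw [h, MonObj.mul_comp, bc_mul_pt hG]

end Level

end K999.VIso
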