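import Groth.Agent.ThetaGrp.K999.EDesc
import Groth.Agent.S1130
import Groth.Agent.S1129
import Groth.Agent.CohqA.PullbackQCoh

/-!
# fpqc descent of modules and of arrows, in the total category of modules

* `Datum.effective`: a descent datum on a quasi-coherent module is effective.
* `desc_arrow`: a cartesian arrow over a faithfully flat quasi-compact morphism is an effective epimorphism with
  respect to quasi-coherent modules.
-/

set_option autoImplicit false
universe u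

open CategoryTheory CategoryTheory.Limits AlgebraicGeometry Opposite
open K999.Cart K999.GenDD

noncomputable section

namespace K999.EDesc

theorem mem_fpqc {X Y : Scheme.{u}} (f : X ⟶ Y) [Flat f] [Surjective f] [QuasiCompact f] :
    Presieve.ofArrows (fun _ : PUnit.{u+1} => X) (fun _ => f) ∈ Scheme.fpqcPrecoverage Y := by
  have := Scheme.Hom.singleton_mem_fpqcPrecoverage f
  rwa [← Presieve.ofArrows_pUnit] at this

/-- Effectivity of descent data. -/
theorem Datum.effective {X Y : Scheme.{u}} {f : X ⟶ Y} [Flat f] [Surjective f] [QuasiCompact f]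
    {L : X.Modules} (D : Datum f L) (hL : L.IsQuasicoherent) :
    ∃ (M : Y.Modules) (c : ob X L ⟶ ob Y M), M.IsQuasicoherent ∧ c.base = f ∧ IsCart c ∧
      ∀ {Z : Scheme.{u}} {K : Z.Modules} (α : ob Z K ⟶ ob X L) (a : Z ⟶ X) (w : α.base ≫ f = a ≫ f),
        D.tr α a w ≫ c = α ≫ c := by
  obtain ⟨M, hM, ⟨e⟩⟩ := Groth.Agent.S1130.result (fun _ : PUnit.{u+1} => f) (mem_fpqc f) D.toDD
    (fun _ => hL)
  obtain ⟨ψ₀, hψ₀, hcomm⟩ := exists_of_iso D.toDD M e
  let ψ : L ⟶ (Scheme.Modules.pullback f).obj M := ψ₀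
  have hψ : IsIso ψ := hψ₀
  have hcart : IsCart (vert ψ ≫ cart f M) := (IsCart.of_isIso (vert ψ)).comp (isCart_cart f M)
  refine ⟨M, vert ψ ≫ cart f M, hM, Category.id_comp _, hcart, ?_⟩
  have key : ∀ {Z : Scheme.{u}} (f₁ f₂ : Z ⟶ X) (w : f₁ ≫ f = f₂ ≫ f),
      D.tr (cart f₁ L) f₂ w ≫ vert ψ ≫ cart f M = cart f₁ L ≫ vert ψ ≫ cart f M := by
    intro Z f₁ f₂ w
    have h1 : (Scheme.Modules.pullback f₁).map ψ ≫ kap f M (f₂ ≫ f) f₁ f₂ w rfl =
        D.homDD f₁ f₂ w ≫ (Scheme.Modules.pullback f₂).map ψ := hcomm Z (f₂ ≫ f) f₁ f₂ w rfl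
    rw [← D.arr_homDD, ← Category.assoc, arr_vert, ← h1, ← vert_arr, Category.assoc, arr_kap,
      ← Category.assoc, ← cart_vert, Category.assoc]
  intro Z K α a w
  have h1 : α = vert (fib α α.base rfl) ≫ cart α.base L := by rw [vert_cart, arr_fib]
  have h2 : D.tr α a w = vert (fib α α.base rfl) ≫ D.tr (cart α.base L) a w := by
    refine (D.tr_congr w h1 (Category.id_comp a).symm).trans ?_
    exact (D.comp_tr _ _ _ _).symm
  rw [h2, Category.assoc, key, ← Category.assoc, ← h1]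

theorem arr_cart_ext {X Y Z : Scheme.{u}} {f : X ⟶ Y} {N : Y.Modules} {K : Z.Modules} {a : Z ⟶ X}
    {u v : K ⟶ (Scheme.Modules.pullback a).obj ((Scheme.Modules.pullback f).obj N)}
    (h : arr a u ≫ cart f N = arr a v ≫ cart f N) : u = v :=
  arr_inj ((isCart_cart f N).ext rfl h)

/-- A cartesian arrow over a faithfully flat quasi-compact morphism is an effective epimorphism with
respect to quasi-coherent modules. -/
theorem desc_arrow {X Y Z : Scheme.{u}} (f : X ⟶ Y) [Flat f] [Surjective f] [QuasiCompact f]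
    {L : X.Modules} {M : Y.Modules} {P : Z.Modules} [M.IsQuasicoherent] [P.IsQuasicoherent]
    {c : ob X L ⟶ ob Y M} (hc : IsCart c) (hcf : c.base = f) (g : Y ⟶ Z) {θ : ob X L ⟶ ob Z P}
    (hθ : θ.base = f ≫ g)
    (H : ∀ (W : Scheme.{u}) (K : W.Modules) (α₁ α₂ : ob W K ⟶ ob X L), α₁ ≫ c = α₂ ≫ c → α₁ ≫ θ = α₂ ≫ θ) :
    ∃! ψ : ob Y M ⟶ ob Z P, ψ.base = g ∧ c ≫ ψ = θ := by
  let c₀ : ob X ((Scheme.Modules.pullback f).obj M) ⟶ ob Y M := cart f M
  let ε : ob X ((Scheme.Modules.pullback f).obj M) ⟶ ob X L :=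
    hc.lift (a' := ob X ((Scheme.Modules.pullback f).obj M)) (𝟙 X) c₀ (by
      change f = 𝟙 X ≫ c.base
      rw [hcf, Category.id_comp])
  have hεb : ε.base = 𝟙 X := hc.lift_base _ _ _
  have hεc : ε ≫ c = c₀ := hc.lift_comp _ _ _
  have hεcart : IsCart ε := hc.of_comp (by rw [hεc]; exact isCart_cart f M)
  have hεiso : IsIso ε := hεcart.isIso (by rw [hεb]; infer_instance)
  let N : Y.Modules := (Scheme.Modules.pullback g).obj P
  have hθ₀ : (ε ≫ θ).base = f ≫ (cart g P).base := by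
    change ε.base ≫ θ.base = _
    rw [hεb, hθ, Category.id_comp]
    rfl
  let θ₁ : ob X ((Scheme.Modules.pullback f).obj M) ⟶ ob Y N :=
    (isCart_cart g P).lift (a' := ob X ((Scheme.Modules.pullback f).obj M)) f (ε ≫ θ) hθ₀
  have hθ₁b : θ₁.base = f := (isCart_cart g P).lift_base _ _ _
  have hθ₁ : θ₁ ≫ cart g P = ε ≫ θ := (isCart_cart g P).lift_comp _ _ _
  let φ : (Scheme.Modules.pullback f).obj M ⟶ (Scheme.Modules.pullback f).obj N := fib θ₁ f hθ₁b
  have hφ : arr f φ = θ₁ := arr_fib _ _ _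
  have hbij := Groth.Agent.S1129.result (fun _ : PUnit.{u+1} => f) (mem_fpqc f) M N
  obtain ⟨ψ', hψ', huniq⟩ := existsUnique_of_bijective (F := Desc.modPF.{u}) M N hbij φ (by
    intro W q f₁ f₂ w₁ w₂
    have key : arr f₂ ((Scheme.Modules.pullback f₁).map φ ≫ kap f N q f₁ f₂ w₁ w₂) ≫ cart f N =
        arr f₂ (kap f M q f₁ f₂ w₁ w₂ ≫ (Scheme.Modules.pullback f₂).map φ) ≫ cart f N := by
      rw [← vert_arr, Category.assoc, arr_kap, ← Category.assoc, ← cart_vert, Category.assoc,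
        ← arr_vert, Category.assoc, vert_cart, hφ]
      apply (isCart_cart g P).ext
      · change f₁ ≫ θ₁.base = f₂ ≫ θ₁.base
        rw [hθ₁b, w₁, w₂]
      · rw [Category.assoc, Category.assoc, hθ₁, ← Category.assoc, ← Category.assoc]
        apply H
        rw [Category.assoc, Category.assoc, hεc, arr_kap]
    exact arr_cart_ext key)
  have e1 : ∀ ψ'' : M ⟶ N, (Scheme.Modules.pullback f).map ψ'' = φ → c ≫ vert ψ'' ≫ cart g P = θ := by
    intro ψ'' h
    rw [← cancel_epi ε, ← Category.assoc, hεc, ← Category.assoc, cart_vert, h, vert_cart, hφ, hθ₁]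
  refine ⟨vert ψ' ≫ cart g P, ⟨Category.id_comp _, e1 ψ' hψ'⟩, ?_⟩
  rintro ψ ⟨hψb, hψc⟩
  have e2 : ψ = vert (fib ψ g hψb) ≫ cart g P := by rw [vert_cart, arr_fib]
  have e3 : (Scheme.Modules.pullback f).map (fib ψ g hψb) = φ := by
    apply arr_inj (f := f)
    rw [hφ]
    apply (isCart_cart g P).ext
    · exact hθ₁b.symm
    · rw [hθ₁, ← hψc, ← Category.assoc, hεc]
      conv_rhs => rw [e2]
      rw [← Category.assoc, cart_vert, vert_cart]
  rw [e2, huniq _ e3]

end K999.EDesc
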