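import Groth.Agent.ThetaGrp.K999.Mum
import Groth.Agent.Fga.GenIso
import Groth.Agent.Fdesc.LocGenPullback

/-!
# Scalars

* `mu K v`: multiplication by a function, as a vertical arrow; `mu_nat`.
* `exists_mulHom`: endomorphisms of invertible modules are multiplications by functions.
-/

set_option autoImplicit false
universe u

open CategoryTheory CategoryTheory.Limits AlgebraicGeometry Opposite TopologicalSpace
open K999.Cart K999.EDesc Groth.Agent.Fdesc.LocGen Groth.Agent.Fga.GenIso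

noncomputable section

namespace K999.Scal

variable {X Y Z : Scheme.{u}}

theorem mulHom_comp {M N : X.Modules} (φ : M ⟶ N) (v : Γ(X, ⊤)) : mulHom M v ≫ φ = φ ≫ mulHom N v := by
  apply Scheme.Modules.hom_ext
  intro V
  ext s
  change φ.app V (ores (le_top : V ≤ ⊤) v • s) = ores (le_top : V ≤ ⊤) v • φ.app V s
  rw [Scheme.Modules.Hom.app_smul]

theorem mulHom_one (M : X.Modules) : mulHom M 1 = 𝟙 M := by
  apply Scheme.Modules.hom_ext
  intro V
  ext s
  change ores (le_top : V ≤ ⊤) 1 • s = s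
  rw [map_one, one_smul]

theorem mulHom_mul (M : X.Modules) (v w : Γ(X, ⊤)) : mulHom M (v * w) = mulHom M v ≫ mulHom M w := by
  apply Scheme.Modules.hom_ext
  intro V
  ext s
  change ores (le_top : V ≤ ⊤) (v * w) • s = ores (le_top : V ≤ ⊤) w • (ores (le_top : V ≤ ⊤) v • s)
  rw [map_mul, mul_comm, mul_smul]

theorem ores_appTop (f : X ⟶ Y) (v : Γ(Y, ⊤)) (U : Y.Opens) :
    ores (le_top : f ⁻¹ᵁ U ≤ ⊤) (f.appTop v) = f.app U (ores (le_top : U ≤ ⊤) v) := by
  exact congr($(f.naturality (homOfLE (le_top : U ≤ ⊤)).op) v).symm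

theorem pull_mulHom (f : X ⟶ Y) (M : Y.Modules) (v : Γ(Y, ⊤)) :
    (Scheme.Modules.pullback f).map (mulHom M v) = mulHom ((Scheme.Modules.pullback f).obj M) (f.appTop v) := by
  apply ((Scheme.Modules.pullbackPushforwardAdjunction f).homEquiv _ _).injective
  apply Scheme.Modules.hom_ext
  intro U
  ext m
  refine (homEquiv_app f _ m).trans (Eq.trans ?_ (homEquiv_app f _ m).symm)
  rw [pullback_map_pullSec, mulHom_app, mulHom_app, pullSec_smul, ores_appTop]

/-- Endomorphisms of invertible modules are multiplications by functions. -/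
theorem exists_mulHom {L : X.Modules} (hL : PicF.IsInvertible L) (φ : L ⟶ L) : ∃ v : Γ(X, ⊤), φ = mulHom L v := by
  rw [isInvertible_iff] at hL
  choose U e hU he using hL
  have h1 : ∀ x, ∃ a : Γ(X, U x), φ.app (U x) (e x) = a • e x := fun x => (he x).exists_eq _
  choose a ha using h1
  have hcov : (⊤ : X.Opens) ≤ ⨆ x, U x := fun x _ => Opens.mem_iSup.mpr ⟨x, hU x⟩
  have hcomp : ∀ x (V : X.Opens) (h : V ≤ U x) (s : Γ(L, V)), φ.app V s = ores h (a x) • s := by
    intro x V h s
    obtain ⟨b, rfl⟩ := ((he x).res h).exists_eq s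
    rw [Scheme.Modules.Hom.app_smul, app_res, ha, res_smul, smul_smul, smul_smul, mul_comm]
  obtain ⟨v, hv⟩ := ores_glue (V := ⊤) U (fun x => le_top) hcov a (by
    intro x y
    have h2 := (he x).res (inf_le_left : U x ⊓ U y ≤ U x)
    apply h2.ext
    rw [← hcomp x _ inf_le_left, ← hcomp y _ inf_le_right])
  refine ⟨v, ?_⟩
  apply Scheme.Modules.hom_ext
  intro V
  ext s
  change φ.app V s = ores (le_top : V ≤ ⊤) v • s
  refine res_ext L (fun x : X => V ⊓ U x) (fun x => inf_le_left) (fun x hx => Opens.mem_iSup.mpr ⟨x, hx, hU x⟩) ?_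
  intro x
  rw [← app_res, hcomp x _ inf_le_right, res_smul, ores_ores, ← hv x, ores_ores]

theorem mulHom_inj {L : X.Modules} (hL : PicF.IsInvertible L) {v w : Γ(X, ⊤)} (h : mulHom L v = mulHom L w) :
    v = w := by
  rw [isInvertible_iff] at hL
  choose U e hU he using hL
  have hcov : (⊤ : X.Opens) ≤ ⨆ x, U x := fun x _ => Opens.mem_iSup.mpr ⟨x, hU x⟩
  refine ores_ext U (fun x => le_top) hcov fun x => ?_
  apply (he x).ext
  have := congrArg (fun φ : L ⟶ L => φ.app (U x) (e x)) h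
  exact this

/-- Multiplication by a function, as a vertical arrow. -/
def mu (K : X.Modules) (v : Γ(X, ⊤)) : ob X K ⟶ ob X K := vert (mulHom K v)

theorem mu_base (K : X.Modules) (v : Γ(X, ⊤)) : (mu K v).base = 𝟙 X := rfl

theorem mu_one (K : X.Modules) : mu K 1 = 𝟙 _ := by rw [mu, mulHom_one, vert_id]

theorem mu_mul (K : X.Modules) (v w : Γ(X, ⊤)) : mu K (v * w) = mu K v ≫ mu K w := by
  rw [mu, mu, mu, mulHom_mul, vert_comp]

/-- Naturality of multiplications. -/
theorem mu_nat {K : Z.Modules} {L : X.Modules} (α : ob Z K ⟶ ob X L) (v : Γ(X, ⊤)) :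
    α ≫ mu L v = mu K ((Scheme.Hom.appTop α.base) v) ≫ α := by
  have h : α = vert (fib α α.base rfl) ≫ cart α.base L := by rw [vert_cart, arr_fib]
  have e1 : cart α.base L ≫ mu L v = mu _ ((Scheme.Hom.appTop α.base) v) ≫ cart α.base L := by
    rw [mu, cart_vert, pull_mulHom]
    rfl
  calc α ≫ mu L v = (vert (fib α α.base rfl) ≫ cart α.base L) ≫ mu L v := by rw [← h]
    _ = (vert (fib α α.base rfl) ≫ mu _ ((Scheme.Hom.appTop α.base) v)) ≫ cart α.base L := by
        rw [Category.assoc, e1, Category.assoc]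
    _ = (mu K ((Scheme.Hom.appTop α.base) v) ≫ vert (fib α α.base rfl)) ≫ cart α.base L := by
        congr 1
        rw [mu, mu, vert_comp, vert_comp, mulHom_comp]
    _ = mu K ((Scheme.Hom.appTop α.base) v) ≫ α := by
        rw [Category.assoc, ← h]

theorem mu_inj {L : X.Modules} (hL : PicF.IsInvertible L) {v w : Γ(X, ⊤)} (h : mu L v = mu L w) : v = w :=
  mulHom_inj hL (vert_inj h)

theorem exists_mu {L : X.Modules} (hL : PicF.IsInvertible L) (χ : ob X L ⟶ ob X L) (h : χ.base = 𝟙 X) :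
    ∃ v : Γ(X, ⊤), χ = mu L v := by
  obtain ⟨ψ, rfl⟩ := VIso.exists_vert χ h
  obtain ⟨v, rfl⟩ := exists_mulHom hL ψ
  exact ⟨v, rfl⟩

end K999.Scal
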