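import Groth.Agent.ThetaGrp.K999.Iso
import Groth.Agent.AbVar.K529.KL

/-!
# Theta points and the Mumford bundle

* `exists_theta_iff`: there is a theta point over `x` iff the classes of `t_x^* L` and `L` on `A × T` agree.
* `exists_local_theta`, `exists_factor_of_local`: points of `K(L)` are the points with local theta points.
-/

set_option autoImplicit false
universe u

open CategoryTheory CategoryTheory.Limits MonoidalCategory CartesianMonoidalCategory MonObj AlgebraicGeometry
open ThetaGrp K999.Cart K999.Rel K999.Ker K999.Act K999.EDesc K999.VIso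
open Groth.Agent.Grpsch.PicGrp K529.KL

noncomputable section

namespace K999.Mum

section General

variable {S : Scheme.{u}} {A : Over S} [GrpObj A] {L : A.left.Modules}

/-- Theta points over `x` are the isomorphisms of `L_T` with `t_x^* L_T`. -/
theorem exists_theta_of_iso {T : Over S} (x : T ⟶ A)
    (e : (Scheme.Modules.pullback (fst A T).left).obj L ≅
      (Scheme.Modules.pullback (fst A T * (snd A T ≫ x)).left).obj L) :
    ∃ β : thetaPts A L T, pt β = x ∧
      β.1.hom ≫ pr A L T = vert e.hom ≫ cart (fst A T * (snd A T ≫ x)).left L := by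
  let α : thetaObj A L T ⟶ ob A.left L := vert e.hom ≫ cart (fst A T * (snd A T ≫ x)).left L
  have hα : IsCart α := (IsCart.of_isIso (vert e.hom)).comp (isCart_cart _ _)
  have hαb : α.base = (transl A x).left ≫ (pr A L T).base := by
    change 𝟙 _ ≫ (fst A T * (snd A T ≫ x)).left = (transl A x).left ≫ (fst A T).left
    rw [Category.id_comp, ← Over.comp_left, tr_fst]
  let φ : thetaObj A L T ⟶ thetaObj A L T := (isCart_pr A L T).lift (a' := thetaObj A L T) (transl A x).left α hαb
  have hφb : φ.base = (transl A x).left := (isCart_pr A L T).lift_base _ _ _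
  have hφ : φ ≫ pr A L T = α := (isCart_pr A L T).lift_comp _ _ _
  have hφc : IsCart φ := (isCart_pr A L T).of_comp (by rw [hφ]; exact hα)
  have hti : IsIso (transl A x).left := by
    have h1 : transl A x ≫ transl A x⁻¹ = 𝟙 _ := by rw [← transl_mul, mul_inv_cancel, transl_one]
    have h2 : transl A x⁻¹ ≫ transl A x = 𝟙 _ := by rw [← transl_mul, inv_mul_cancel, transl_one]
    exact ⟨(transl A x⁻¹).left, by rw [← Over.comp_left, h1]; rfl, by rw [← Over.comp_left, h2]; rfl⟩
  have hφi : IsIso φ := hφc.isIso (by rw [hφb]; exact hti)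
  let β : thetaPts A L T := ⟨(asIso φ : thetaObj A L T ≅ thetaObj A L T), x, hφb⟩
  exact ⟨β, over_iff.mp hφb, hφ⟩

theorem exists_iso_of_theta {T : Over S} (β : thetaPts A L T) :
    ∃ e : (Scheme.Modules.pullback (fst A T).left).obj L ≅
      (Scheme.Modules.pullback (fst A T * (snd A T ≫ pt β)).left).obj L,
      β.1.hom ≫ pr A L T = vert e.hom ≫ cart (fst A T * (snd A T ≫ pt β)).left L := by
  have hi : IsIso β.1.hom := Iso.isIso_hom β.1
  have hc : IsCart (β.1.hom ≫ pr A L T) := (IsCart.of_isIso β.1.hom).comp (isCart_pr A L T)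
  have hb : (β.1.hom ≫ pr A L T).base = (fst A T * (snd A T ≫ pt β)).left := by
    have h : IsOverPt β (pt β) := over_pt β
    rw [IsOverPt] at h
    change β.1.hom.base ≫ (fst A T).left = _
    rw [h, ← Over.comp_left, tr_fst]
  obtain ⟨e, he⟩ := exists_iso_of_cart hc (isCart_cart (fst A T * (snd A T ≫ pt β)).left L) hb rfl
  exact ⟨e, he.symm⟩

theorem exists_theta_iff (hL : PicF.IsInvertible L) {T : Over S} (x : T ⟶ A) :
    (∃ β : thetaPts A L T, pt β = x) ↔
      pl (fst A T * (snd A T ≫ x)) (mk L hL) = pl (fst A T) (mk L hL) := by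
  rw [pull_mk, pull_mk, mk_eq_iff]
  constructor
  · rintro ⟨β, rfl⟩
    obtain ⟨e, -⟩ := exists_iso_of_theta β
    exact ⟨e.symm⟩
  · rintro ⟨e⟩
    obtain ⟨β, h, -⟩ := exists_theta_of_iso x e.symm
    exact ⟨β, h⟩

/-- Invertible modules are locally trivial, in the Picard group. -/
theorem exists_local {X : Scheme.{u}} (c : Pic X) (x : X) : ∃ U : X.Opens, x ∈ U ∧ pull U.ι c = 1 := by
  induction c using ind with | _ L hL => ?_
  obtain ⟨U, hx, ⟨e⟩⟩ := hL x
  refine ⟨U, hx, ?_⟩
  rw [pull_mk, mk_eq_one_iff]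
  exact ⟨(Scheme.Modules.restrictFunctorIsoPullback U.ι).symm.app L ≪≫ e⟩

/-- The inclusion of an open subscheme of an `S`-scheme. -/
abbrev oin (T : Over S) (U : T.left.Opens) : Over.mk (U.ι ≫ T.hom) ⟶ T := Over.homMk U.ι rfl

theorem whiskerLeft_fst_mul {T T' : Over S} (h : T' ⟶ T) (x : T ⟶ A) :
    (A ◁ h) ≫ (fst A T * (snd A T ≫ x)) = fst A T' * (snd A T' ≫ h ≫ x) := by
  rw [comp_mul, whiskerLeft_fst, whiskerLeft_snd_assoc]

/-- Local existence of theta points. -/
theorem exists_local_theta (hL : PicF.IsInvertible L) {T : Over S} (x : T ⟶ A)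
    (hx : pl (fst A T * (snd A T ≫ x)) (mk L hL) = pl (fst A T) (mk L hL) * pl (snd A T ≫ x) (mk L hL))
    (t : T.left) : ∃ U : T.left.Opens, t ∈ U ∧ ∃ β : thetaPts A L (Over.mk (U.ι ≫ T.hom)), pt β = oin T U ≫ x := by
  obtain ⟨U, ht, hU⟩ := exists_local (pl x (mk L hL)) t
  refine ⟨U, ht, ?_⟩
  rw [exists_theta_iff hL, ← whiskerLeft_fst_mul, pl_comp, hx, map_mul, ← pl_comp, ← pl_comp,
    whiskerLeft_fst, whiskerLeft_snd_assoc, pl_comp (snd A _), pl_comp (oin T U)]
  have h1 : pl (oin T U) (pl x (mk L hL)) = 1 := hU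
  rw [h1, map_one, _root_.mul_one]

/-- Factorisation through a monomorphism is local. -/
theorem exists_factor_of_local {K : Over S} (iK : K ⟶ A) [Mono iK.left] {T : Over S} (x : T ⟶ A)
    (h : ∀ t : T.left, ∃ U : T.left.Opens, t ∈ U ∧ ∃ y : Over.mk (U.ι ≫ T.hom) ⟶ K, y ≫ iK = oin T U ≫ x) :
    ∃ y : T ⟶ K, y ≫ iK = x := by
  choose U hU y hy using h
  have hy' : ∀ t, (y t).left ≫ iK.left = (U t).ι ≫ x.left := fun t => by
    rw [← Over.comp_left, hy]
    rfl
  let 𝒰 : T.left.OpenCover := T.left.openCoverOfIsOpenCover U (by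
    rw [TopologicalSpace.IsOpenCover, eq_top_iff]
    intro t _
    exact TopologicalSpace.Opens.mem_iSup.mpr ⟨t, hU t⟩)
  have hcompat : ∀ s t : T.left, pullback.fst (U s).ι (U t).ι ≫ (y s).left =
      pullback.snd (U s).ι (U t).ι ≫ (y t).left := by
    intro s t
    apply (cancel_mono iK.left).mp
    have h1 : pullback.fst (U s).ι (U t).ι ≫ (U s).ι ≫ x.left = pullback.snd (U s).ι (U t).ι ≫ (U t).ι ≫ x.left :=
      pullback.condition_assoc _
    rw [← hy', ← hy'] at h1
    exact (Category.assoc _ _ _).trans (h1.trans (Category.assoc _ _ _).symm)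
  let z : T.left ⟶ K.left := 𝒰.glueMorphisms (fun t => (y t).left) hcompat
  have hz : ∀ t, 𝒰.f t ≫ z = (y t).left := fun t => 𝒰.ι_glueMorphisms _ _ t
  have hzx : z ≫ iK.left = x.left := by
    refine 𝒰.hom_ext _ _ fun t => ?_
    rw [← Category.assoc, hz]
    exact hy' t
  refine ⟨Over.homMk z (by rw [← Over.w iK, ← Category.assoc, hzx, Over.w]), ?_⟩
  exact Over.OverMorphism.ext hzx

end General

section Field

variable {k : Type u} [Field k] {A : Over (Spec (CommRingCat.of k))} [GrpObj A] {L : A.left.Modules}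
  (hL : PicF.IsInvertible L)

include hL in
/-- The point under a theta point satisfies the Mumford condition. -/
theorem isMumfordTriv_pt {T : Over (Spec (CommRingCat.of k))} (β : thetaPts A L T) :
    IsMumfordTriv A L (pt β) := by
  rw [isMumfordTriv_iff hL]
  have h := (exists_theta_iff hL (pt β)).mp ⟨β, rfl⟩
  have h1 : pl (pt β) (mk L hL) = 1 := by
    have h2 := congrArg (pl (es A T)) h
    rwa [pl_es_mul, pl_es_fst] at h2
  rw [h, pl_comp, h1, map_one, _root_.mul_one]

include hL in
theorem exists_local_theta' {T : Over (Spec (CommRingCat.of k))} {x : T ⟶ A} (hx : IsMumfordTriv A L x)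
    (t : T.left) : ∃ U : T.left.Opens, t ∈ U ∧ ∃ β : thetaPts A L (Over.mk (U.ι ≫ T.hom)), pt β = oin T U ≫ x :=
  exists_local_theta hL x ((isMumfordTriv_iff hL x).mp hx) t

include hL in
/-- Points of `K(L)` are the points with local theta points. -/
theorem factor_iff {K : Over (Spec (CommRingCat.of k))} {iK : K ⟶ A} (hK : IsKL A L iK)
    {T : Over (Spec (CommRingCat.of k))} (x : T ⟶ A) : (∃ y : T ⟶ K, y ≫ iK = x) ↔
      ∀ t : T.left, ∃ U : T.left.Opens, t ∈ U ∧ ∃ β : thetaPts A L (Over.mk (U.ι ≫ T.hom)), pt β = oin T U ≫ x := by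
  constructor
  · intro h t
    exact exists_local_theta' hL ((hK.univ T x).mpr h) t
  · intro h
    have := hK.closed
    have : Mono iK.left := inferInstance
    refine exists_factor_of_local iK x fun t => ?_
    obtain ⟨U, ht, β, hβ⟩ := h t
    refine ⟨U, ht, ?_⟩
    rw [← hK.univ, ← hβ]
    exact isMumfordTriv_pt hL β

end Field

end K999.Mum
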