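import Groth.Agent.ThetaGrp.K999.Rel
import Groth.Prelude.Def_AlgGrp

/-!
# Pull back of theta points over the same scheme, canonical lifts of points of the kernel, representing schemes

* `pb m β x w : thetaPts A L T` for `β : thetaPts B M T` over `x ≫ m.f`; `pb_mul`, `bc_pb`.
* `can m x w`: the canonical lift of a point `x` of the kernel; `can_mul`, `bc_can`.
* `cls hG β : T ⟶ G` the classifying map of a theta point; `cls_mul`, `comp_cls`.
-/

set_option autoImplicit false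
universe u

open CategoryTheory CategoryTheory.Limits MonoidalCategory CartesianMonoidalCategory MonObj AlgebraicGeometry
open ThetaGrp K999.Cart K999.Rel

noncomputable section

namespace K999.Ker

variable {S : Scheme.{u}} {A B C : Over S} [GrpObj A] [GrpObj B] [GrpObj C]
  {L : A.left.Modules} {M : B.left.Modules} {P : C.left.Modules}

theorem pmor_ext {m m' : PMor A B L M} (h : m.c = m'.c) : m = m' := by
  have hf : m.f = m'.f := by
    apply Over.OverMorphism.ext
    rw [← m.hc, ← m'.hc, h]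
  cases m; cases m'
  cases hf
  cases h
  rfl

theorem id_comp (m : PMor A B L M) : (PMor.id A L).comp m = m :=
  pmor_ext (Category.id_comp _)

theorem comp_id (m : PMor A B L M) : m.comp (PMor.id B M) = m :=
  pmor_ext (Category.comp_id _)

theorem comp_assoc {D : Over S} [GrpObj D] {Q : D.left.Modules} (m : PMor A B L M) (n : PMor B C M P)
    (o : PMor C D P Q) : (m.comp n).comp o = m.comp (n.comp o) :=
  pmor_ext (Category.assoc _ _ _)

theorem rel_bc_bc {m : PMor A B L M} {T T' T₁ T₁' : Over S} {g : T' ⟶ T} {h : T₁' ⟶ T'} {g₁ : T₁' ⟶ T₁}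
    {k : T₁ ⟶ T} (w : h ≫ g = g₁ ≫ k) {γ : thetaPts A L T'} {β : thetaPts B M T} (hr : Rel m g γ β) :
    Rel m g₁ (bc h γ) (bc k β) := by
  have hp : (h ≫ pt γ) ≫ m.f = g₁ ≫ pt (bc k β) := by
    rw [pt_bc, Category.assoc, rel_pt hr, ← Category.assoc, w, Category.assoc]
  have h1 := rel_pull m g₁ (bc k β) (h ≫ pt γ) hp
  have h2 := rel_comp h1 (rel_bc k β)
  have h3 := rel_comp (rel_bc h γ) hr
  rw [comp_id, ← w] at h2
  rw [id_comp] at h3
  have h4 := rel_unique h3 h2 (by rw [pt_pull, pt_bc])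
  rw [h4]
  exact h1

/-- Pull back of a theta point over the same scheme. -/
def pb (m : PMor A B L M) {T : Over S} (β : thetaPts B M T) (x : T ⟶ A) (w : x ≫ m.f = pt β) :
    thetaPts A L T :=
  pull m (𝟙 T) β x (w.trans (Category.id_comp _).symm)

section Pb

variable {m : PMor A B L M} {T : Over S}

theorem pt_pb {β : thetaPts B M T} {x : T ⟶ A} (w : x ≫ m.f = pt β) : pt (pb m β x w) = x :=
  pt_pull _ _ _ _ _

theorem rel_pb {β : thetaPts B M T} {x : T ⟶ A} (w : x ≫ m.f = pt β) : Rel m (𝟙 T) (pb m β x w) β :=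
  rel_pull _ _ _ _ _

theorem eq_pb {γ : thetaPts A L T} {β : thetaPts B M T} (h : Rel m (𝟙 T) γ β) :
    γ = pb m β (pt γ) ((rel_pt h).trans (Category.id_comp _)) :=
  rel_unique h (rel_pb _) (pt_pb _).symm

theorem pb_congr {β β' : thetaPts B M T} {x x' : T ⟶ A} (w : x ≫ m.f = pt β) (hβ : β = β') (hx : x = x') :
    pb m β x w = pb m β' x' (by rw [← hx, w, hβ]) := by
  subst hβ; subst hx; rfl

theorem pb_mul {β₁ β₂ : thetaPts B M T} {x₁ x₂ : T ⟶ A} (w₁ : x₁ ≫ m.f = pt β₁) (w₂ : x₂ ≫ m.f = pt β₂) :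
    pb m β₁ x₁ w₁ * pb m β₂ x₂ w₂ =
      pb m (β₁ * β₂) (x₂ * x₁) (by rw [MonObj.mul_comp, pt_mul, w₁, w₂]) :=
  rel_unique (rel_mul (rel_pb w₁) (rel_pb w₂)) (rel_pb _) (by rw [pt_mul, pt_pb, pt_pb, pt_pb])

theorem pb_one : pb m (1 : thetaPts B M T) 1 (by rw [MonObj.one_comp, pt_one]) = 1 :=
  rel_unique (rel_pb _) rel_one (by rw [pt_pb, pt_one])

theorem bc_pb {T' : Over S} (h : T' ⟶ T) {β : thetaPts B M T} {x : T ⟶ A} (w : x ≫ m.f = pt β) :
    bc h (pb m β x w) = pb m (bc h β) (h ≫ x) (by rw [pt_bc, Category.assoc, w]) :=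
  rel_unique (rel_bc_bc (by rw [Category.comp_id, Category.id_comp]) (rel_pb w)) (rel_pb _)
    (by rw [pt_bc, pt_pb, pt_pb])

end Pb

/-- The canonical lift of a point of the kernel. -/
def can (m : PMor A B L M) {T : Over S} (x : T ⟶ A) (w : x ≫ m.f = 1) : thetaPts A L T :=
  pb m 1 x (w.trans pt_one.symm)

section Can

variable {m : PMor A B L M} {T : Over S}

theorem pt_can {x : T ⟶ A} (w : x ≫ m.f = 1) : pt (can m x w) = x := pt_pb _

theorem can_congr {x x' : T ⟶ A} (w : x ≫ m.f = 1) (hx : x = x') :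
    can m x w = can m x' (by rw [← hx, w]) := by
  subst hx; rfl

theorem can_mul {x₁ x₂ : T ⟶ A} (w₁ : x₁ ≫ m.f = 1) (w₂ : x₂ ≫ m.f = 1) :
    can m x₁ w₁ * can m x₂ w₂ = can m (x₂ * x₁) (by rw [MonObj.mul_comp, w₁, w₂, _root_.one_mul]) := by
  rw [can, can, pb_mul]
  exact pb_congr _ (_root_.one_mul _) rfl

theorem bc_can {T' : Over S} (h : T' ⟶ T) {x : T ⟶ A} (w : x ≫ m.f = 1) :
    bc h (can m x w) = can m (h ≫ x) (by rw [Category.assoc, w, MonObj.comp_one]) := by
  rw [can, bc_pb]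
  exact pb_congr _ (map_one _) rfl

end Can

section Cls

variable {G : Over S} [GrpObj G] {u : thetaPts A L G} (hG : IsThetaGrpSch A L G u)

/-- The morphism classifying a theta point. -/
def cls (hG : IsThetaGrpSch A L G u) {T : Over S} (β : thetaPts A L T) : T ⟶ G := (hG.univ T β).choose

theorem bc_cls {T : Over S} (β : thetaPts A L T) : bc (cls hG β) u = β :=
  (isBaseChange_iff.mp (hG.univ T β).choose_spec.1).symm

theorem cls_unique {T : Over S} {β : thetaPts A L T} {g : T ⟶ G} (h : bc g u = β) : g = cls hG β :=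
  (hG.univ T β).choose_spec.2 g (isBaseChange_iff.mpr h.symm)

theorem cls_bc {T : Over S} (g : T ⟶ G) : cls hG (bc g u) = g := (cls_unique hG rfl).symm

include hG in
theorem bc_inj {T : Over S} {g g' : T ⟶ G} (h : bc g u = bc g' u) : g = g' := by
  rw [← cls_bc hG g, ← cls_bc hG g', h]

include hG in
theorem bc_mul_pt {T : Over S} (g g' : T ⟶ G) : bc (g * g') u = bc g u * bc g' u :=
  (isBaseChange_iff.mp (hG.mul T g g' _ _ (isBaseChange_iff.mpr rfl) (isBaseChange_iff.mpr rfl))).symm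

theorem cls_mul {T : Over S} (β β' : thetaPts A L T) : cls hG (β * β') = cls hG β * cls hG β' := by
  refine (cls_unique hG ?_).symm
  rw [bc_mul_pt hG, bc_cls, bc_cls]

theorem comp_cls {T T' : Over S} (h : T' ⟶ T) (β : thetaPts A L T) : h ≫ cls hG β = cls hG (bc h β) := by
  refine cls_unique hG ?_
  rw [← bc_bc, bc_cls]

omit [GrpObj G] in
theorem pt_eq {T : Over S} (g : T ⟶ G) : g ≫ pt u = pt (bc g u) := (pt_bc _ _).symm

end Cls

section Kernel

variable {N : Over S} {f : A ⟶ B} {i : N ⟶ A}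

omit [GrpObj A] in
theorem ker_comp (hN : AlgGrp.IsKernel i f) {T : Over S} (n : T ⟶ N) : (n ≫ i) ≫ f = 1 := by
  have h : i ≫ f = toUnit N ≫ η[B] := hN.w
  rw [Category.assoc, h, ← Category.assoc]
  exact (congr_arg (· ≫ η[B]) (toUnit_unique (n ≫ toUnit N) (toUnit T)))

omit [GrpObj A] in
theorem ker_lift (hN : AlgGrp.IsKernel i f) {T : Over S} (x : T ⟶ A) (w : x ≫ f = 1) :
    ∃ n : T ⟶ N, n ≫ i = x :=
  ⟨hN.lift x (toUnit T) w, hN.lift_fst _ _ _⟩

omit [GrpObj A] in
theorem ker_mono (hN : AlgGrp.IsKernel i f) {T : Over S} {n n' : T ⟶ N} (h : n ≫ i = n' ≫ i) : n = n' :=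
  hN.hom_ext h (toUnit_unique _ _)

omit [GrpObj A] in
theorem isImmersion_of_isKernel (hN : AlgGrp.IsKernel i f) : IsImmersion i.left := by
  have h1 : IsPullback i.left (toUnit N).left f.left (η[B] : 𝟙_ (Over S) ⟶ B).left :=
    hN.map (Over.forget S)
  have h2 : IsImmersion (η[B] : 𝟙_ (Over S) ⟶ B).left := by
    have h3 : (η[B] : 𝟙_ (Over S) ⟶ B).left ≫ B.hom = (𝟙_ (Over S)).hom := Over.w _
    have h4 : IsIso (𝟙_ (Over S)).hom := by
      change IsIso (𝟙 S)
      infer_instance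
    have h5 : IsImmersion ((η[B] : 𝟙_ (Over S) ⟶ B).left ≫ B.hom) := by
      rw [h3]; infer_instance
    exact IsImmersion.of_comp _ B.hom
  exact MorphismProperty.of_isPullback h1.flip h2

end Kernel

theorem isMonHom_of_points {G H : Over S} [GrpObj G] [GrpObj H] (j : G ⟶ H)
    (h : ∀ (T : Over S) (x y : T ⟶ G), (x * y) ≫ j = (x ≫ j) * (y ≫ j)) : IsMonHom j := by
  have h1 : ∀ T : Over S, (1 : T ⟶ G) ≫ j = 1 := by
    intro T
    have h2 := h T 1 1
    rw [_root_.one_mul] at h2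
    exact (mul_eq_left.mp h2.symm)
  refine ⟨?_, ?_⟩
  · have h2 := h1 (𝟙_ (Over S))
    rwa [MonObj.one_eq_one, MonObj.one_eq_one]
  · rw [MonObj.mul_eq_mul, h, MonObj.mul_eq_mul, MonObj.comp_mul, tensorHom_fst, tensorHom_snd]

/-- The lift of the kernel to a group scheme representing the theta group. -/
theorem exists_level {N : Over S} [GrpObj N] {G : Over S} [GrpObj G] [IsCommMonObj A] (m : PMor A B L M)
    {i : N ⟶ A} [IsMonHom i] (hN : AlgGrp.IsKernel i m.f) {u : thetaPts A L G}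
    (hG : IsThetaGrpSch A L G u) :
    ∃ j : N ⟶ G, IsMonHom j ∧ (∀ (T : Over S) (n : T ⟶ N), bc (n ≫ j) u = can m (n ≫ i) (ker_comp hN n)) := by
  have w : (𝟙 N ≫ i) ≫ m.f = 1 := ker_comp hN (𝟙 N)
  have key : ∀ (T : Over S) (n : T ⟶ N), n ≫ cls hG (can m (𝟙 N ≫ i) w) =
      cls hG (can m (n ≫ i) (ker_comp hN n)) := by
    intro T n
    rw [comp_cls, bc_can]
    congr 1
  refine ⟨cls hG (can m (𝟙 N ≫ i) w), ?_, ?_⟩
  · apply isMonHom_of_points
    intro T x y
    rw [key, key, key, ← cls_mul, can_mul]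
    congr 1
    refine can_congr _ ?_
    rw [MonObj.mul_comp, _root_.mul_comm]
  · intro T n
    rw [key, bc_cls]

end K999.Ker
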