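import Groth.Agent.ThetaGrp.K999.Split

/-!
# The action of `K(L)` on the Mumford bundle
-/

set_option autoImplicit false
universe u

open CategoryTheory CategoryTheory.Limits MonoidalCategory CartesianMonoidalCategory MonObj AlgebraicGeometry
open ThetaGrp K999.Cart K999.Rel K999.Ker K999.Act K999.EDesc K999.VIso K999.Scal K999.Mum K999.Sc K999.PtDesc
open K999.Perp K999.Split Groth.Agent.Grpsch.PicGrp K529.KL

noncomputable section

namespace K999.Lam

variable {k : Type u} [Field k] {A : Over (Spec (CommRingCat.of k))} [GrpObj A] [IsCommMonObj A]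
  {L : A.left.Modules}

theorem isProper_prod (A : Over (Spec (CommRingCat.of k))) [IsProper A.hom] [GeometricallyIntegral A.hom] :
    IsProper (A ⊗ A).hom ∧ GeometricallyIntegral (A ⊗ A).hom := by
  have hsub : Subsingleton ↥(Spec (CommRingCat.of k)) := inferInstanceAs (Subsingleton (PrimeSpectrum k))
  have hN : IsNoetherianRing (CommRingCat.of k) := inferInstanceAs (IsNoetherianRing k)
  have h1 : Flat A.hom := inferInstance
  have h2 : LocallyOfFinitePresentation A.hom := inferInstance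
  have hp : IsPullback (fst A A).left (snd A A).left A.hom A.hom := IsPullback.of_hasPullback _ _
  have h3 : IsProper (snd A A).left := MorphismProperty.of_isPullback hp inferInstance
  have h4 : Flat (snd A A).left := MorphismProperty.of_isPullback hp inferInstance
  have h5 : LocallyOfFinitePresentation (snd A A).left := MorphismProperty.of_isPullback hp inferInstance
  have h6 : GeometricallyIntegral (snd A A).left := MorphismProperty.of_isPullback hp inferInstance
  have e : (A ⊗ A).hom = (snd A A).left ≫ A.hom := (Over.w (snd A A)).symm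
  rw [e]
  exact ⟨inferInstance, Groth.Agent.Grpsch.CubeData.geometricallyIntegral_comp _ _⟩

section

variable {Λ : (A ⊗ A).left.Modules} (hL : PicF.IsInvertible L) (hΛi : PicF.IsInvertible Λ)
  (hΛ : AgPol.IsLambdaSheaf μ[A].left (fst A A).left (snd A A).left L Λ)

include hL hΛi hΛ in
theorem pl_lam {T : Over (Spec (CommRingCat.of k))} (a b : T ⟶ A) :
    pl (lift a b) (mk Λ hΛi) * pl a (mk L hL) * pl b (mk L hL) = pl (a * b) (mk L hL) := by
  rw [isLambdaSheaf_iff _ _ _ hL hΛi] at hΛ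
  have h := congrArg (pl (lift a b)) hΛ
  change pl (lift a b) (mk Λ hΛi * pl (fst A A) (mk L hL) * pl (snd A A) (mk L hL)) =
    pl (lift a b) (pl μ[A] (mk L hL)) at h
  rw [map_mul, map_mul, ← pl_comp, ← pl_comp, ← pl_comp, lift_fst, lift_snd] at h
  exact h

include hL hΛi hΛ in
/-- Theta points of the Mumford bundle over `(y, 1)`, `y` in `K(L)`. -/
theorem exists_theta {K : Over (Spec (CommRingCat.of k))} {iK : K ⟶ A} (hK : IsKL A L iK)
    {T : Over (Spec (CommRingCat.of k))} (y : T ⟶ K) :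
    ∃ β : thetaPts (A ⊗ A) Λ T, pt β = lift (y ≫ iK) 1 := by
  rw [exists_theta_iff hΛi]
  let a : (A ⊗ A) ⊗ T ⟶ A := fst (A ⊗ A) T ≫ fst A A
  let b : (A ⊗ A) ⊗ T ⟶ A := fst (A ⊗ A) T ≫ snd A A
  let w : (A ⊗ A) ⊗ T ⟶ K := snd (A ⊗ A) T ≫ y
  have e1 : fst (A ⊗ A) T * (snd (A ⊗ A) T ≫ lift (y ≫ iK) 1) = lift (a * (w ≫ iK)) b := by
    apply CartesianMonoidalCategory.hom_ext
    · rw [MonObj.mul_comp, lift_fst, Category.assoc, lift_fst, Category.assoc]
    · rw [MonObj.mul_comp, lift_snd, Category.assoc, lift_snd, MonObj.comp_one, _root_.mul_one]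
  have e2 : fst (A ⊗ A) T = lift a b := by
    rw [← comp_lift, lift_fst_snd, Category.comp_id]
  rw [e1, e2]
  have h1 := pl_lam hL hΛi hΛ (a * (w ≫ iK)) b
  have h2 := pl_lam hL hΛi hΛ a b
  have h3 := pl_mul_of_mem hL hK w a
  have h4 := pl_mul_of_mem hL hK w (a * b)
  have e3 : a * (w ≫ iK) * b = a * b * (w ≫ iK) := by
    rw [_root_.mul_assoc, _root_.mul_comm (w ≫ iK) b, _root_.mul_assoc]
  rw [h3, e3, h4, ← h2] at h1
  generalize pl (lift (a * (w ≫ iK)) b) (mk Λ hΛi) = X at h1 ⊢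
  generalize pl (lift a b) (mk Λ hΛi) = Y at h1 ⊢
  generalize pl a (mk L hL) = pa at h1
  generalize pl b (mk L hL) = pb at h1
  generalize pl (w ≫ iK) (mk L hL) = pw at h1
  have h5 : X * (pa * pw * pb) = Y * (pa * pw * pb) := by
    calc X * (pa * pw * pb) = X * (pa * pw) * pb := (_root_.mul_assoc _ _ _).symm
      _ = Y * pa * pb * pw := h1
      _ = Y * (pa * pw * pb) := by
        rw [_root_.mul_assoc, _root_.mul_assoc, _root_.mul_comm pb pw, ← _root_.mul_assoc pa]
  exact mul_right_cancel h5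

variable [IsProper A.hom] [GeometricallyIntegral A.hom]

include hL hΛi hΛ in
/-- The action of `K(L)` on the Mumford bundle. -/
theorem exists_family {K : Over (Spec (CommRingCat.of k))} [GrpObj K] {iK : K ⟶ A} [IsMonHom iK] (hK : IsKL A L iK) :
    ∃ σ : ∀ {T : Over (Spec (CommRingCat.of k))}, (T ⟶ K) → thetaPts (A ⊗ A) Λ T,
      (∀ {T : Over (Spec (CommRingCat.of k))} (y : T ⟶ K), pt (σ y) = lift (y ≫ iK) 1) ∧
      (∀ {T T' : Over (Spec (CommRingCat.of k))} (h : T' ⟶ T) (y : T ⟶ K), bc h (σ y) = σ (h ≫ y)) ∧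
      (∀ {T : Over (Spec (CommRingCat.of k))} (x y : T ⟶ K), σ (x * y) = σ x * σ y) := by
  have hA := AVPush.pushO A
  obtain ⟨hpr, hgi⟩ := isProper_prod A
  have hC := AVPush.pushO (A ⊗ A)
  let qq : A ⟶ A ⊗ A := lift (𝟙 A) 1
  have e1 : ∀ {T : Over (Spec (CommRingCat.of k))} (z : T ⟶ A), (z ≫ qq) ≫ fst A A = z := by
    intro T z
    rw [Category.assoc, lift_fst, Category.comp_id]
  have e2 : ∀ {T : Over (Spec (CommRingCat.of k))} (z : T ⟶ A), (z ≫ qq) ≫ snd A A = 1 := by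
    intro T z
    rw [Category.assoc, lift_snd, MonObj.comp_one]
  have hqqm : IsMonHom qq := by
    apply isMonHom_of_points
    intro T x y
    apply CartesianMonoidalCategory.hom_ext
    · rw [e1, MonObj.mul_comp (x ≫ qq) (y ≫ qq) (fst A A), e1, e1]
    · rw [e2, MonObj.mul_comp (x ≫ qq) (y ≫ qq) (snd A A), e2, e2, _root_.one_mul]
  have hqqΛ : pl qq (mk Λ hΛi) = 1 := by
    have h := pl_lam hL hΛi hΛ (𝟙 A) 1
    rw [_root_.mul_one, pl_one, _root_.mul_one] at h
    exact mul_eq_right.mp h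
  obtain ⟨e⟩ : Nonempty (Coh.structureModule A.left ≅ (Scheme.Modules.pullback qq.left).obj Λ) := by
    rw [Groth.Agent.Grpsch.PicGrp.one_def, pull_mk, mk_eq_iff] at hqqΛ
    obtain ⟨e⟩ := hqqΛ
    exact ⟨e.symm⟩
  let n : PMor A (A ⊗ A) (Coh.structureModule A.left) Λ := (PMor.ofIso e).comp (PMor.ofHom qq Λ)
  have hnf : n.f = qq := Category.id_comp qq
  obtain ⟨σ₀, h₀p, h₀b, h₀m⟩ := exists_triv A
  have hP : PicF.IsInvertible (Coh.structureModule A.left) :=
    Groth.Agent.Fdesc.LocGen.isInvertible_structureModule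
  have hex : ∀ {T : Over (Spec (CommRingCat.of k))} (y : T ⟶ K),
      ∃ β : thetaPts (A ⊗ A) Λ T, pt β = lift (y ≫ iK) 1 ∧ Rel n (𝟙 T) (σ₀ (y ≫ iK)) β := by
    intro T y
    refine exists_rel n hA hP (σ₀ (y ≫ iK)) ?_ (exists_theta hL hΛi hΛ hK y)
    rw [h₀p, hnf]
    apply CartesianMonoidalCategory.hom_ext
    · rw [Category.assoc, lift_fst, lift_fst, Category.comp_id]
    · rw [Category.assoc, lift_snd, lift_snd, MonObj.comp_one]
  choose σ hσ₁ hσ₂ using @hex
  refine ⟨fun {T} y => σ y, fun y => hσ₁ y, ?_, ?_⟩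
  · intro T T' h y
    refine eq_of_rel n hC hP hΛi (γ := σ₀ ((h ≫ y) ≫ iK)) ?_ (hσ₂ (h ≫ y)) ?_
    · have h1 := rel_bc_bc (m := n) (h := h) (k := h) (by rw [Category.comp_id, Category.id_comp]) (hσ₂ y) (g₁ := 𝟙 T')
      rwa [h₀b, ← Category.assoc] at h1
    · rw [pt_bc, hσ₁, hσ₁, comp_lift, MonObj.comp_one, Category.assoc]
  · intro T x y
    refine eq_of_rel n hC hP hΛi (γ := σ₀ ((x * y) ≫ iK)) (hσ₂ (x * y)) ?_ ?_
    · have h1 := rel_mul (hσ₂ x) (hσ₂ y)
      rwa [← h₀m, _root_.mul_comm (y ≫ iK) (x ≫ iK), ← MonObj.mul_comp] at h1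
    · rw [pt_mul, hσ₁, hσ₁, hσ₁]
      apply CartesianMonoidalCategory.hom_ext
      · rw [MonObj.mul_comp (lift (y ≫ iK) 1) (lift (x ≫ iK) 1) (fst A A), lift_fst, lift_fst, lift_fst,
          MonObj.mul_comp, _root_.mul_comm]
      · rw [MonObj.mul_comp (lift (y ≫ iK) 1) (lift (x ≫ iK) 1) (snd A A), lift_snd, lift_snd, lift_snd,
          _root_.mul_one]

end

end K999.Lam
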