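import Groth.Agent.ThetaGrp.K999.Ker

/-!
# The action of theta points on arrows to `(A, L)`

For `β : thetaPts A L T`, `t : Z ⟶ T`, `a : Z ⟶ A` and an arrow `α : z ⟶ (A, L)` over `a` (`z` an object over `Z`),
`act β t a α : z ⟶ (A, L)` is an arrow over `a * (t ≫ pt β)`.
-/

set_option autoImplicit false
universe u

open CategoryTheory CategoryTheory.Limits MonoidalCategory CartesianMonoidalCategory MonObj AlgebraicGeometry
open ThetaGrp K999.Cart K999.Rel K999.Ker

noncomputable section

namespace K999.Act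

variable {S : Scheme.{u}} {A B : Over S} [GrpObj A] [GrpObj B]
  {L : A.left.Modules} {M : B.left.Modules}

/-- The arrow `z ⟶ (A × T, L_T)` defined by `α : z ⟶ (A, L)` over `a` and `t`. -/
def lft {Z T : Over S} {K : Z.left.Modules} (a : Z ⟶ A) (t : Z ⟶ T) (α : ob Z.left K ⟶ ob A.left L)
    (hα : α.base = a.left) : ob Z.left K ⟶ thetaObj A L T :=
  (isCart_pr A L T).lift (a' := ob Z.left K) (lift a t).left α (by
    rw [pr_base, ← Over.comp_left, lift_fst, hα])

section

variable {Z T : Over S} {K : Z.left.Modules} {a : Z ⟶ A} {t : Z ⟶ T} {α : ob Z.left K ⟶ ob A.left L}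

theorem lft_base (hα : α.base = a.left) : (lft a t α hα).base = (lift a t).left :=
  (isCart_pr A L T).lift_base _ _ _

@[reassoc]
theorem lft_pr (hα : α.base = a.left) : lft a t α hα ≫ pr A L T = α :=
  (isCart_pr A L T).lift_comp _ _ _

theorem lft_unique (hα : α.base = a.left) {φ : ob Z.left K ⟶ thetaObj A L T}
    (h₁ : φ.base = (lift a t).left) (h₂ : φ ≫ pr A L T = α) : φ = lft a t α hα :=
  (isCart_pr A L T).ext (h₁.trans (lft_base hα).symm) (h₂.trans (lft_pr hα).symm)

/-- Naturality in the source. -/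
theorem comp_lft {Z' : Over S} {K' : Z'.left.Modules} (h : Z' ⟶ Z) (ζ : ob Z'.left K' ⟶ ob Z.left K)
    (hζ : ζ.base = h.left) (hα : α.base = a.left) (h' : (ζ ≫ α).base = (h ≫ a).left) :
    ζ ≫ lft a t α hα = lft (h ≫ a) (h ≫ t) (ζ ≫ α) h' := by
  apply lft_unique
  · change ζ.base ≫ (lft a t α hα).base = _
    rw [lft_base, hζ, ← Over.comp_left, comp_lift]
  · rw [Category.assoc, lft_pr]

theorem base_comp {Z' : Over S} {K' : Z'.left.Modules} (h : Z' ⟶ Z) (ζ : ob Z'.left K' ⟶ ob Z.left K)
    (hζ : ζ.base = h.left) (hα : α.base = a.left) : (ζ ≫ α).base = (h ≫ a).left := by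
  change ζ.base ≫ α.base = _
  rw [hζ, hα, Over.comp_left]

/-- Compatibility with morphisms of pairs. -/
theorem lft_FF (m : PMor A B L M) {T' : Over S} (g : T ⟶ T') (hα : α.base = a.left)
    (h' : (α ≫ m.c).base = (a ≫ m.f).left) :
    lft a t α hα ≫ m.FF g = lft (a ≫ m.f) (t ≫ g) (α ≫ m.c) h' := by
  apply lft_unique
  · change (lft a t α hα).base ≫ (m.FF g).base = _
    rw [lft_base, PMor.FF_base, ← Over.comp_left, lift_map]
  · rw [Category.assoc, PMor.FF_pr, lft_pr_assoc]

theorem base_c (m : PMor A B L M) (hα : α.base = a.left) : (α ≫ m.c).base = (a ≫ m.f).left := by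
  change α.base ≫ m.c.base = _
  rw [hα, m.hc, Over.comp_left]

end

/-- The action. -/
def act {Z T : Over S} {K : Z.left.Modules} (β : thetaPts A L T) (a : Z ⟶ A) (t : Z ⟶ T)
    (α : ob Z.left K ⟶ ob A.left L) (hα : α.base = a.left) : ob Z.left K ⟶ ob A.left L :=
  lft a t α hα ≫ β.1.hom ≫ pr A L T

section

variable {Z T : Over S} {K : Z.left.Modules} {a : Z ⟶ A} {t : Z ⟶ T} {α : ob Z.left K ⟶ ob A.left L}
  {β : thetaPts A L T}

theorem act_base (hα : α.base = a.left) : (act β a t α hα).base = (a * (t ≫ pt β)).left := by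
  have h : β.1.hom.base = (transl A (pt β)).left := over_pt β
  change (lft a t α hα).base ≫ β.1.hom.base ≫ (fst A T).left = _
  rw [lft_base, h, ← Over.comp_left, ← Over.comp_left, tr_fst, comp_mul, lift_fst, lift_snd_assoc]

theorem act_congr {β' : thetaPts A L T} {a' : Z ⟶ A} {t' : Z ⟶ T} {α' : ob Z.left K ⟶ ob A.left L}
    (hβ : β = β') (ha : a = a') (ht : t = t') (hαα : α = α') (hα : α.base = a.left) :
    act β a t α hα = act β' a' t' α' (by rw [← hαα, ← ha, hα]) := by
  subst hβ; subst ha; subst ht; subst hαα; rfl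

theorem comp_act {Z' : Over S} {K' : Z'.left.Modules} (h : Z' ⟶ Z) (ζ : ob Z'.left K' ⟶ ob Z.left K)
    (hζ : ζ.base = h.left) (hα : α.base = a.left) :
    ζ ≫ act β a t α hα = act β (h ≫ a) (h ≫ t) (ζ ≫ α) (base_comp h ζ hζ hα) := by
  rw [act, ← Category.assoc, comp_lft h ζ hζ hα (base_comp h ζ hζ hα)]
  rfl

theorem act_one (hα : α.base = a.left) : act (1 : thetaPts A L T) a t α hα = α := by
  rw [act, hom_one, Category.id_comp, lft_pr]

theorem lft_hom (hα : α.base = a.left) :
    lft a t α hα ≫ β.1.hom = lft (a * (t ≫ pt β)) t (act β a t α hα) (act_base hα) := by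
  apply lft_unique
  · have h : β.1.hom.base = (transl A (pt β)).left := over_pt β
    change (lft a t α hα).base ≫ β.1.hom.base = _
    rw [lft_base, h, ← Over.comp_left]
    congr 1
    apply CartesianMonoidalCategory.hom_ext
    · rw [Category.assoc, tr_fst, comp_mul, lift_fst, lift_snd_assoc, lift_fst]
    · rw [Category.assoc, tr_snd, lift_snd, lift_snd]
  · rw [Category.assoc]
    rfl

theorem act_act {β' : thetaPts A L T} (hα : α.base = a.left) :
    act β' (a * (t ≫ pt β)) t (act β a t α hα) (act_base hα) = act (β' * β) a t α hα := by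
  rw [act, ← lft_hom, act, hom_mul, Category.assoc, Category.assoc]

theorem act_bc {T' : Over S} {g : T' ⟶ T} {t' : Z ⟶ T'} (hα : α.base = a.left) :
    act (bc g β) a t' α hα = act β a (t' ≫ g) α hα := by
  have h1 : (bc g β).1.hom ≫ bcLift A L g = bcLift A L g ≫ β.1.hom := isBaseChange_iff.mpr rfl
  have h2 : lft a t' α hα ≫ bcLift A L g = lft a (t' ≫ g) α hα := by
    apply lft_unique
    · change (lft a t' α hα).base ≫ (A ◁ g).left = _
      rw [lft_base, ← Over.comp_left, lift_whiskerLeft]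
    · rw [Category.assoc, bcLift_pr, lft_pr]
  rw [act, act, ← h2, ← bcLift_pr A L g]
  simp only [Category.assoc]
  rw [← Category.assoc (bc g β).1.hom, h1]
  simp only [Category.assoc, bcLift_pr]

/-- Pulled back points act compatibly. -/
theorem act_rel {m : PMor A B L M} {T' : Over S} {g : T ⟶ T'} {γ : thetaPts B M T'}
    (hr : Rel m g β γ) (hα : α.base = a.left) :
    act β a t α hα ≫ m.c = act γ (a ≫ m.f) (t ≫ g) (α ≫ m.c) (base_c m hα) := by
  have hr' : β.1.hom ≫ m.FF g = m.FF g ≫ γ.1.hom := hr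
  rw [act, act, ← lft_FF m g hα (base_c m hα)]
  simp only [Category.assoc]
  rw [← PMor.FF_pr m g, ← Category.assoc β.1.hom, hr', Category.assoc]

end

/-- A theta point is determined by its underlying point and its action on the projection. -/
theorem ext_act {T : Over S} {β β' : thetaPts A L T} (hp : pt β = pt β')
    (h : β.1.hom ≫ pr A L T = β'.1.hom ≫ pr A L T) : β = β' := by
  refine ext_hom ((isCart_pr A L T).ext ?_ h)
  have h1 : IsOverPt β (pt β) := over_pt β
  have h2 : IsOverPt β' (pt β') := over_pt β'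
  rw [IsOverPt] at h1 h2
  rw [h1, h2, hp]

theorem act_pr {T : Over S} (β : thetaPts A L T) :
    act (Z := A ⊗ T) β (fst A T) (snd A T) (pr A L T) rfl = β.1.hom ≫ pr A L T := by
  have : lft (Z := A ⊗ T) (fst A T) (snd A T) (pr A L T) rfl = 𝟙 _ := by
    symm
    apply lft_unique
    · change 𝟙 _ = _
      rw [lift_fst_snd]
      rfl
    · exact Category.id_comp _
  change lft (Z := A ⊗ T) (fst A T) (snd A T) (pr A L T) rfl ≫ β.1.hom ≫ pr A L T = _
  rw [this]
  exact Category.id_comp _

end K999.Act
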