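import Groth.Prelude.Def_ThetaGrp
import Mathlib.CategoryTheory.FiberedCategory.Grothendieck

/-!
# Cartesian arrows in the total category of modules on schemes

`E` is the total category of pairs (scheme, module); an arrow is cartesian (`IsCart`) iff its module part is an isomorphism.
-/

set_option autoImplicit false
universe u

open CategoryTheory CategoryTheory.Limits AlgebraicGeometry Opposite
open Pseudofunctor Bicategory

noncomputable section

namespace K999.Cart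

/-- The total category of modules on schemes. -/
abbrev E := CoGrothendieck (ThetaGrp.modPF.{u})

/-- The object `(X, M)`. -/
abbrev ob (X : Scheme.{u}) (M : X.Modules) : E := ⟨X, M⟩

/-- An arrow of `E` is cartesian. -/
def IsCart {a b : E.{u}} (φ : a ⟶ b) : Prop :=
  ∀ ⦃a' : E.{u}⦄ (g : a'.base ⟶ a.base) (φ' : a' ⟶ b), φ'.base = g ≫ φ.base →
    ∃! χ : a' ⟶ a, χ.base = g ∧ χ ≫ φ = φ'

namespace IsCart

variable {a b c : E.{u}} {φ : a ⟶ b}

/-- The lift of an arrow through a cartesian arrow. -/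
def lift (h : IsCart φ) {a' : E.{u}} (g : a'.base ⟶ a.base) (φ' : a' ⟶ b)
    (w : φ'.base = g ≫ φ.base) : a' ⟶ a := (h g φ' w).choose

theorem lift_base (h : IsCart φ) {a' : E.{u}} (g : a'.base ⟶ a.base) (φ' : a' ⟶ b)
    (w : φ'.base = g ≫ φ.base) : (h.lift g φ' w).base = g := (h g φ' w).choose_spec.1.1

@[reassoc]
theorem lift_comp (h : IsCart φ) {a' : E.{u}} (g : a'.base ⟶ a.base) (φ' : a' ⟶ b)
    (w : φ'.base = g ≫ φ.base) : h.lift g φ' w ≫ φ = φ' := (h g φ' w).choose_spec.1.2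

theorem ext (h : IsCart φ) {a' : E.{u}} {χ χ' : a' ⟶ a} (hb : χ.base = χ'.base)
    (hc : χ ≫ φ = χ' ≫ φ) : χ = χ' := by
  obtain ⟨x, -, hx⟩ := h χ.base (χ ≫ φ) rfl
  rw [hx χ ⟨rfl, rfl⟩, hx χ' ⟨hb.symm, hc.symm⟩]

theorem of_isIso (φ : a ⟶ b) [IsIso φ] : IsCart φ := by
  intro a' g φ' w
  refine ⟨φ' ≫ inv φ, ⟨?_, by simp⟩, ?_⟩
  · change φ'.base ≫ (inv φ).base = g
    rw [w, Category.assoc]
    have : (φ ≫ inv φ).base = 𝟙 _ := by rw [IsIso.hom_inv_id]; rfl
    change φ.base ≫ (inv φ).base = 𝟙 _ at this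
    rw [this, Category.comp_id]
  · rintro χ ⟨-, rfl⟩
    simp

theorem comp {φ : a ⟶ b} {ψ : b ⟶ c} (hφ : IsCart φ) (hψ : IsCart ψ) : IsCart (φ ≫ ψ) := by
  intro a' g φ' w
  have w' : φ'.base = (g ≫ φ.base) ≫ ψ.base := by rw [w, Category.assoc]; rfl
  refine ⟨hφ.lift g (hψ.lift (g ≫ φ.base) φ' w') (hψ.lift_base _ _ _), ⟨hφ.lift_base _ _ _, ?_⟩, ?_⟩
  · rw [← Category.assoc, hφ.lift_comp, hψ.lift_comp]
  · rintro χ ⟨hb, hc⟩
    apply hφ.ext (by rw [hφ.lift_base, hb])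
    apply hψ.ext
    · rw [hφ.lift_comp, hψ.lift_base]
      change χ.base ≫ φ.base = _
      rw [hb]
    · rw [hφ.lift_comp, hψ.lift_comp, Category.assoc, hc]

theorem of_comp {φ : a ⟶ b} {ψ : b ⟶ c} (hψ : IsCart ψ) (hφψ : IsCart (φ ≫ ψ)) : IsCart φ := by
  intro a' g φ' w
  have w' : (φ' ≫ ψ).base = g ≫ (φ ≫ ψ).base := by
    change φ'.base ≫ ψ.base = g ≫ φ.base ≫ ψ.base
    rw [w, Category.assoc]
  refine ⟨hφψ.lift g (φ' ≫ ψ) w', ⟨hφψ.lift_base _ _ _, ?_⟩, ?_⟩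
  · apply hψ.ext
    · change (hφψ.lift g (φ' ≫ ψ) w').base ≫ φ.base = _
      rw [hφψ.lift_base, w]
    · rw [Category.assoc, hφψ.lift_comp]
  · rintro χ ⟨hb, hc⟩
    apply hφψ.ext
    · rw [hφψ.lift_base, hb]
    · rw [hφψ.lift_comp, ← Category.assoc, hc]

/-- A cartesian arrow over an isomorphism is an isomorphism. -/
theorem isIso (h : IsCart φ) (hb : IsIso φ.base) : IsIso φ := by
  have w : (𝟙 b : b ⟶ b).base = inv φ.base ≫ φ.base := by
    rw [IsIso.inv_hom_id]; rfl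
  refine ⟨h.lift (inv φ.base) (𝟙 b) w, ?_, h.lift_comp _ _ _⟩
  apply h.ext
  · change φ.base ≫ (h.lift (inv φ.base) (𝟙 b) w).base = 𝟙 _
    rw [h.lift_base, IsIso.hom_inv_id]
  · rw [Category.assoc, h.lift_comp, Category.comp_id, Category.id_comp]

end IsCart

/-- The canonical cartesian arrow `(X, f^*N) ⟶ (Y, N)`. -/
def cart {X Y : Scheme.{u}} (f : X ⟶ Y) (N : Y.Modules) :
    ob X ((Scheme.Modules.pullback f).obj N) ⟶ ob Y N where
  base := f
  fiber := 𝟙 _

@[simp]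
theorem cart_base {X Y : Scheme.{u}} (f : X ⟶ Y) (N : Y.Modules) : (cart f N).base = f := rfl

theorem isCart_cart {X Y : Scheme.{u}} (f : X ⟶ Y) (N : Y.Modules) : IsCart (cart f N) := by
  intro a' g φ' w
  have h1 : Functor.IsHomLift (CoGrothendieck.forget ThetaGrp.modPF.{u}) (g ≫ f) φ' := by
    have h0 : (CoGrothendieck.forget ThetaGrp.modPF.{u}).map φ' = g ≫ f := w
    rw [← h0]
    exact IsHomLift.map _ _
  have h2 := CoGrothendieck.isStronglyCartesian_homCartesianLift (F := ThetaGrp.modPF.{u}) N f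
  obtain ⟨χ, ⟨hχ1, hχ2⟩, hχ3⟩ := @h2.universal_property' a' g φ' h1
  refine ⟨χ, ⟨?_, hχ2⟩, ?_⟩
  · exact (@IsHomLift.eq_of_isHomLift _ _ _ _ (CoGrothendieck.forget ThetaGrp.modPF.{u}) a'
      (CoGrothendieck.domainCartesianLift N f) g χ hχ1).symm
  · rintro χ' ⟨hb, hc⟩
    apply hχ3
    refine ⟨?_, hc⟩
    have h0 : (CoGrothendieck.forget ThetaGrp.modPF.{u}).map χ' = g := hb
    rw [← h0]
    exact IsHomLift.map _ _

section Arr

variable {X Y Z : Scheme.{u}} {M : X.Modules} {N : Y.Modules} {P : Z.Modules}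

/-- Constructor for arrows. -/
def arr (f : X ⟶ Y) (h : M ⟶ (Scheme.Modules.pullback f).obj N) : ob X M ⟶ ob Y N where
  base := f
  fiber := h

@[simp] theorem arr_base (f : X ⟶ Y) (h : M ⟶ (Scheme.Modules.pullback f).obj N) : (arr f h).base = f := rfl

theorem eq_arr (φ : ob X M ⟶ ob Y N) : φ = arr φ.base φ.fiber := rfl

theorem arr_comp_arr (f : X ⟶ Y) (h : M ⟶ (Scheme.Modules.pullback f).obj N)
    (g : Y ⟶ Z) (k : N ⟶ (Scheme.Modules.pullback g).obj P) :
    arr f h ≫ arr g k = arr (f ≫ g) (h ≫ (Scheme.Modules.pullback f).map k ≫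
      (Scheme.Modules.pullbackComp f g).hom.app P) := rfl

theorem arr_eq_arr {f f' : X ⟶ Y} (e : f = f') (h : M ⟶ (Scheme.Modules.pullback f).obj N)
    (h' : M ⟶ (Scheme.Modules.pullback f').obj N)
    (w : h ≫ (Scheme.Modules.pullbackCongr e).hom.app N = h') : arr f h = arr f' h' := by
  subst e
  subst w
  have : (Scheme.Modules.pullbackCongr (rfl : f = f)).hom.app N = 𝟙 _ := rfl
  rw [this, Category.comp_id]

theorem arr_inj {f : X ⟶ Y} {h h' : M ⟶ (Scheme.Modules.pullback f).obj N} (w : arr f h = arr f h') :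
    h = h' := by
  injection w

theorem cart_eq_arr (f : X ⟶ Y) (N : Y.Modules) : cart f N = arr f (𝟙 _) := rfl

theorem arr_comp_cart (f : X ⟶ Y) (g : Y ⟶ Z) (h : M ⟶ (Scheme.Modules.pullback f).obj ((Scheme.Modules.pullback g).obj P)) :
    arr f h ≫ cart g P = arr (f ≫ g) (h ≫ (Scheme.Modules.pullbackComp f g).hom.app P) := by
  rw [cart_eq_arr, arr_comp_arr, CategoryTheory.Functor.map_id, Category.id_comp]

theorem cart_comp_cart (f : X ⟶ Y) (g : Y ⟶ Z) (P : Z.Modules) :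
    cart f ((Scheme.Modules.pullback g).obj P) ≫ cart g P =
      arr (f ≫ g) ((Scheme.Modules.pullbackComp f g).hom.app P) := by
  rw [cart_eq_arr, arr_comp_cart, Category.id_comp]

theorem arr_congr_comp_cart {f : X ⟶ Y} {g : Y ⟶ Z} {k : X ⟶ Z} (e : k = f ≫ g) (N : Z.Modules) :
    arr f ((Scheme.Modules.pullbackCongr e).hom.app N ≫ (Scheme.Modules.pullbackComp f g).inv.app N) ≫
      cart g N = cart k N := by
  subst e
  have : (Scheme.Modules.pullbackCongr (rfl : f ≫ g = f ≫ g)).hom.app N = 𝟙 _ := rfl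
  rw [this, Category.id_comp, arr_comp_cart, Iso.inv_hom_id_app]
  rfl

end Arr

end K999.Cart
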