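import Mathlib.CategoryTheory.Sites.Descent.DescentData

/-!
# Descent data for one morphism, for a general pseudofunctor
-/

set_option autoImplicit false
universe u v' u' v w

open CategoryTheory Opposite

noncomputable section

namespace K999.GenDD

variable {C : Type u} [Category.{v} C] (F : Pseudofunctor (LocallyDiscrete Cᵒᵖ) Cat.{v', u'})

/-- The comparison `g^* a^* L ⟶ (ga)^* L`. -/
def gmci {X Z W : C} (L : F.obj (.mk (op X))) (g : W ⟶ Z) (a : Z ⟶ X) (ga : W ⟶ X)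
    (h' : a.op.toLoc ≫ g.op.toLoc = ga.op.toLoc) :
    (F.map g.op.toLoc).toFunctor.obj ((F.map a.op.toLoc).toFunctor.obj L) ⟶
      (F.map ga.op.toLoc).toFunctor.obj L :=
  (F.mapComp' a.op.toLoc g.op.toLoc ga.op.toLoc h').inv.toNatTrans.app L

/-- The comparison `(ga)^* L ⟶ g^* a^* L`. -/
def gmch {X Z W : C} (L : F.obj (.mk (op X))) (g : W ⟶ Z) (a : Z ⟶ X) (ga : W ⟶ X)
    (h' : a.op.toLoc ≫ g.op.toLoc = ga.op.toLoc) :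
    (F.map ga.op.toLoc).toFunctor.obj L ⟶
      (F.map g.op.toLoc).toFunctor.obj ((F.map a.op.toLoc).toFunctor.obj L) :=
  (F.mapComp' a.op.toLoc g.op.toLoc ga.op.toLoc h').hom.toNatTrans.app L

/-- The comparison `f₁^* f^* M ⟶ f₂^* f^* M`. -/
def gkap {X Y Z : C} (f : X ⟶ Y) (M : F.obj (.mk (op Y))) (q : Z ⟶ Y) (f₁ f₂ : Z ⟶ X) (w₁ : f₁ ≫ f = q)
    (w₂ : f₂ ≫ f = q) :
    (F.map f₁.op.toLoc).toFunctor.obj ((F.map f.op.toLoc).toFunctor.obj M) ⟶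
      (F.map f₂.op.toLoc).toFunctor.obj ((F.map f.op.toLoc).toFunctor.obj M) :=
  gmci F M f₁ f q (by rw [← w₁]; rfl) ≫ gmch F M f₂ f q (by rw [← w₂]; rfl)

variable {F}

theorem exists_of_iso {X Y : C} {f : X ⟶ Y} (D : F.DescentData (fun _ : PUnit.{w+1} => f))
    (M : F.obj (.mk (op Y))) (e : (F.toDescentData (fun _ : PUnit.{w+1} => f)).obj M ≅ D) :
    ∃ ψ : D.obj ⟨⟩ ⟶ (F.map f.op.toLoc).toFunctor.obj M, IsIso ψ ∧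
      ∀ (Z : C) (q : Z ⟶ Y) (f₁ f₂ : Z ⟶ X) (w₁ : f₁ ≫ f = q) (w₂ : f₂ ≫ f = q),
        (F.map f₁.op.toLoc).toFunctor.map ψ ≫ gkap F f M q f₁ f₂ w₁ w₂ =
          D.hom (i₁ := ⟨⟩) (i₂ := ⟨⟩) q f₁ f₂ w₁ w₂ ≫ (F.map f₂.op.toLoc).toFunctor.map ψ := by
  refine ⟨e.inv.hom ⟨⟩, ⟨e.hom.hom ⟨⟩, ?_, ?_⟩, ?_⟩
  · exact (congrArg (fun z => z.hom ⟨⟩) e.inv_hom_id)
  · exact (congrArg (fun z => z.hom ⟨⟩) e.hom_inv_id)
  · intro Z q f₁ f₂ w₁ w₂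
    exact e.inv.comm q f₁ f₂ w₁ w₂

theorem existsUnique_of_bijective {X Y : C} {f : X ⟶ Y} (M N : F.obj (.mk (op Y)))
    (hb : Function.Bijective ((F.toDescentData (fun _ : PUnit.{w+1} => f)).map : (M ⟶ N) → _))
    (φ : (F.map f.op.toLoc).toFunctor.obj M ⟶ (F.map f.op.toLoc).toFunctor.obj N)
    (hφ : ∀ (Z : C) (q : Z ⟶ Y) (f₁ f₂ : Z ⟶ X) (w₁ : f₁ ≫ f = q) (w₂ : f₂ ≫ f = q),
      (F.map f₁.op.toLoc).toFunctor.map φ ≫ gkap F f N q f₁ f₂ w₁ w₂ =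
        gkap F f M q f₁ f₂ w₁ w₂ ≫ (F.map f₂.op.toLoc).toFunctor.map φ) :
    ∃! ψ : M ⟶ N, (F.map f.op.toLoc).toFunctor.map ψ = φ := by
  let Φ : (F.toDescentData (fun _ : PUnit.{w+1} => f)).obj M ⟶
      (F.toDescentData (fun _ : PUnit.{w+1} => f)).obj N :=
    { hom := fun _ => φ
      comm := fun Z q _ _ f₁ f₂ w₁ w₂ => hφ Z q f₁ f₂ w₁ w₂ }
  obtain ⟨ψ, hψ⟩ := hb.2 Φ
  refine ⟨ψ, congrArg (fun z => z.hom ⟨⟩) hψ, ?_⟩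
  intro ψ' hψ'
  apply hb.1
  rw [hψ]
  ext _
  exact hψ'

end K999.GenDD
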