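import Groth.Agent.ThetaGrp.K999.Cart
import Groth.Agent.ThetaGrp.K999.GenDD
import Groth.Prelude.Def_Desc

/-!
# Descent data in terms of arrows of the total category of modules

* `fib α a h`: the module part of an arrow over `a`.
* `vert φ`: the vertical arrow of a morphism of modules.
* `Datum f L`: a descent datum on `L` relative to `f`, as a transport of arrows to `(X, L)`.
* `Datum.toDD`: the associated descent datum of Mathlib.
-/

set_option autoImplicit false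
universe u

open CategoryTheory CategoryTheory.Limits AlgebraicGeometry Opposite
open K999.Cart K999.GenDD

noncomputable section

namespace K999.EDesc

section Fib

variable {X Y Z : Scheme.{u}} {L : X.Modules} {M : Y.Modules} {K : Z.Modules}

/-- The module part of an arrow, over a given morphism. -/
def fib (α : ob Z K ⟶ ob X L) (a : Z ⟶ X) (h : α.base = a) : K ⟶ (Scheme.Modules.pullback a).obj L := by
  subst h
  exact α.fiber

@[simp]
theorem arr_fib (α : ob Z K ⟶ ob X L) (a : Z ⟶ X) (h : α.base = a) : arr a (fib α a h) = α := by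
  subst h
  rfl

/-- The vertical arrow. -/
def vert {K' : Z.Modules} (φ : K ⟶ K') : ob Z K ⟶ ob Z K' :=
  (Pseudofunctor.CoGrothendieck.ι ThetaGrp.modPF.{u} Z).map (X := K) (Y := K') φ

@[simp]
theorem vert_base {K' : Z.Modules} (φ : K ⟶ K') : (vert φ).base = 𝟙 Z := rfl

@[simp]
theorem vert_id : vert (𝟙 K) = 𝟙 _ :=
  (Pseudofunctor.CoGrothendieck.ι ThetaGrp.modPF.{u} Z).map_id K

@[reassoc (attr := simp)]
theorem vert_comp {K' K'' : Z.Modules} (φ : K ⟶ K') (ψ : K' ⟶ K'') : vert φ ≫ vert ψ = vert (φ ≫ ψ) :=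
  ((Pseudofunctor.CoGrothendieck.ι ThetaGrp.modPF.{u} Z).map_comp (X := K) (Y := K') (Z := K'') φ ψ).symm

theorem vert_eq {K' : Z.Modules} (φ : K ⟶ K') :
    vert φ = arr (𝟙 Z) (φ ≫ (Scheme.Modules.pullbackId Z).inv.app K') := rfl

theorem arr_eq₁ (a : Z ⟶ X) (h : K ⟶ (Scheme.Modules.pullback a).obj L) :
    arr a h = arr (𝟙 Z ≫ a) (h ≫ (Scheme.Modules.pullbackId Z).inv.app _ ≫
      (Scheme.Modules.pullbackComp (𝟙 Z) a).hom.app L) := by
  have h1 : 𝟙 (ob Z K) ≫ arr a h = arr a h := Category.id_comp _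
  rw [← vert_id, vert_eq, Category.id_comp, arr_comp_arr] at h1
  rw [← h1]
  congr 1
  exact ((Scheme.Modules.pullbackId Z).inv.naturality_assoc h _).symm

theorem vert_arr {K' : Z.Modules} (φ : K ⟶ K') (a : Z ⟶ X) (h : K' ⟶ (Scheme.Modules.pullback a).obj L) :
    vert φ ≫ arr a h = arr a (φ ≫ h) := by
  rw [arr_eq₁ a (φ ≫ h), vert_eq, arr_comp_arr]
  congr 1
  rw [Category.assoc, Category.assoc]
  congr 1
  exact ((Scheme.Modules.pullbackId Z).inv.naturality_assoc h _).symm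

theorem arr_eq₂ (a : Z ⟶ X) (h : K ⟶ (Scheme.Modules.pullback a).obj L) :
    arr a h = arr (a ≫ 𝟙 X) (h ≫ (Scheme.Modules.pullback a).map ((Scheme.Modules.pullbackId X).inv.app L) ≫
      (Scheme.Modules.pullbackComp a (𝟙 X)).hom.app L) := by
  have h1 : arr a h ≫ 𝟙 (ob X L) = arr a h := Category.comp_id _
  rw [← vert_id, vert_eq, Category.id_comp, arr_comp_arr] at h1
  exact h1.symm

theorem arr_vert {L' : X.Modules} (a : Z ⟶ X) (h : K ⟶ (Scheme.Modules.pullback a).obj L) (φ : L ⟶ L') :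
    arr a h ≫ vert φ = arr a (h ≫ (Scheme.Modules.pullback a).map φ) := by
  rw [arr_eq₂ a (h ≫ _), vert_eq, arr_comp_arr]
  congr 1
  rw [CategoryTheory.Functor.map_comp, Category.assoc, Category.assoc]

@[simp]
theorem vert_cart (a : Z ⟶ X) (h : K ⟶ (Scheme.Modules.pullback a).obj L) :
    vert h ≫ cart a L = arr a h := by
  rw [cart_eq_arr, vert_arr, Category.comp_id]

theorem cart_vert {L' : X.Modules} (a : Z ⟶ X) (φ : L ⟶ L') :
    cart a L ≫ vert φ = vert ((Scheme.Modules.pullback a).map φ) ≫ cart a L' := by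
  rw [vert_cart, cart_eq_arr, arr_vert, Category.id_comp]

theorem vert_inj {K' : Z.Modules} {φ ψ : K ⟶ K'} (h : vert φ = vert ψ) : φ = ψ := by
  rw [vert_eq, vert_eq] at h
  exact (cancel_mono _).mp (arr_inj h)

/-- A vertical isomorphism. -/
instance {K' : Z.Modules} (φ : K ⟶ K') [IsIso φ] : IsIso (vert φ) :=
  ⟨vert (inv φ), by simp, by simp⟩

theorem mc_hom {W : Scheme.{u}} (g : W ⟶ Z) (a : Z ⟶ X) (L : X.Modules)
    (h' : a.op.toLoc ≫ g.op.toLoc = (g ≫ a).op.toLoc) :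
    (Desc.modPF.mapComp' a.op.toLoc g.op.toLoc (g ≫ a).op.toLoc h').hom.toNatTrans.app L =
      (Scheme.Modules.pullbackComp g a).inv.app L := by
  have e : Desc.modPF.mapComp' a.op.toLoc g.op.toLoc (g ≫ a).op.toLoc h' =
    Desc.modPF.mapComp a.op.toLoc g.op.toLoc := Pseudofunctor.mapComp'_eq_mapComp _ _ _
  exact congrArg (fun i : (Desc.modPF.map (g ≫ a).op.toLoc ≅ _) => i.hom.toNatTrans.app L) e

theorem mc_inv {W : Scheme.{u}} (g : W ⟶ Z) (a : Z ⟶ X) (L : X.Modules)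
    (h' : a.op.toLoc ≫ g.op.toLoc = (g ≫ a).op.toLoc) :
    (Desc.modPF.mapComp' a.op.toLoc g.op.toLoc (g ≫ a).op.toLoc h').inv.toNatTrans.app L =
      (Scheme.Modules.pullbackComp g a).hom.app L := by
  have e : Desc.modPF.mapComp' a.op.toLoc g.op.toLoc (g ≫ a).op.toLoc h' =
    Desc.modPF.mapComp a.op.toLoc g.op.toLoc := Pseudofunctor.mapComp'_eq_mapComp _ _ _
  exact congrArg (fun i : (Desc.modPF.map (g ≫ a).op.toLoc ≅ _) => i.inv.toNatTrans.app L) e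

/-- The comparison `(gf)^* L = g^* f^* L`, as arrows. -/
theorem comp_inv_cart {W : Scheme.{u}} (g : W ⟶ Z) (a : Z ⟶ X) (L : X.Modules) :
    arr g ((Scheme.Modules.pullbackComp g a).inv.app L) ≫ cart a L = cart (g ≫ a) L := by
  rw [arr_comp_cart, Iso.inv_hom_id_app]
  rfl

end Fib

/-- A descent datum on `L` relative to `f`, as a transport of arrows to `(X, L)`. -/
structure Datum {X Y : Scheme.{u}} (f : X ⟶ Y) (L : X.Modules) where
  /-- the transport -/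
  tr : ∀ {Z : Scheme.{u}} {K : Z.Modules} (α : ob Z K ⟶ ob X L) (a : Z ⟶ X), α.base ≫ f = a ≫ f →
    (ob Z K ⟶ ob X L)
  tr_base : ∀ {Z : Scheme.{u}} {K : Z.Modules} (α : ob Z K ⟶ ob X L) (a : Z ⟶ X) (w : α.base ≫ f = a ≫ f),
    (tr α a w).base = a
  comp_tr : ∀ {Z Z' : Scheme.{u}} {K : Z.Modules} {K' : Z'.Modules} (ζ : ob Z' K' ⟶ ob Z K)
    (α : ob Z K ⟶ ob X L) (a : Z ⟶ X) (w : α.base ≫ f = a ≫ f),
    ζ ≫ tr α a w = tr (ζ ≫ α) (ζ.base ≫ a) (by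
      change (ζ.base ≫ α.base) ≫ f = _
      rw [Category.assoc, w, Category.assoc])
  tr_self : ∀ {Z : Scheme.{u}} {K : Z.Modules} (α : ob Z K ⟶ ob X L), tr α α.base rfl = α
  tr_tr : ∀ {Z : Scheme.{u}} {K : Z.Modules} (α : ob Z K ⟶ ob X L) (a b : Z ⟶ X) (w : α.base ≫ f = a ≫ f)
    (w' : a ≫ f = b ≫ f), tr (tr α a w) b (by rw [tr_base, w']) = tr α b (w.trans w')

namespace Datum

variable {X Y : Scheme.{u}} {f : X ⟶ Y} {L : X.Modules} (D : Datum f L)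

theorem tr_congr {Z : Scheme.{u}} {K : Z.Modules} {α α' : ob Z K ⟶ ob X L} {a a' : Z ⟶ X}
    (w : α.base ≫ f = a ≫ f) (hα : α = α') (ha : a = a') :
    D.tr α a w = D.tr α' a' (by rw [← hα, ← ha, w]) := by
  subst hα; subst ha; rfl

theorem tr_eq {Z : Scheme.{u}} {K : Z.Modules} {α : ob Z K ⟶ ob X L} {a : Z ⟶ X}
    (w : α.base ≫ f = a ≫ f) (ha : α.base = a) : D.tr α a w = α := by
  rw [D.tr_congr w rfl ha.symm]
  exact D.tr_self α

/-- The morphisms of the descent datum. -/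
def homDD {Z : Scheme.{u}} (f₁ f₂ : Z ⟶ X) (w : f₁ ≫ f = f₂ ≫ f) :
    (Scheme.Modules.pullback f₁).obj L ⟶ (Scheme.Modules.pullback f₂).obj L :=
  fib (D.tr (cart f₁ L) f₂ w) f₂ (D.tr_base _ _ _)

theorem arr_homDD {Z : Scheme.{u}} (f₁ f₂ : Z ⟶ X) (w : f₁ ≫ f = f₂ ≫ f) :
    arr f₂ (D.homDD f₁ f₂ w) = D.tr (cart f₁ L) f₂ w := arr_fib _ _ _

theorem pullHom_eq {Z W : Scheme.{u}} {N N' : X.Modules} {f₁ f₂ : Z ⟶ X}
    (φ : (Scheme.Modules.pullback f₁).obj N ⟶ (Scheme.Modules.pullback f₂).obj N') (g : W ⟶ Z)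
    (h₁ : g ≫ f₁ = g ≫ f₁) (h₂ : g ≫ f₂ = g ≫ f₂) :
    Pseudofunctor.LocallyDiscreteOpToCat.pullHom (F := Desc.modPF.{u}) (M₁ := N) (M₂ := N') φ g (g ≫ f₁) (g ≫ f₂) h₁ h₂ =
      (Scheme.Modules.pullbackComp g f₁).inv.app N ≫ (Scheme.Modules.pullback g).map φ ≫
        (Scheme.Modules.pullbackComp g f₂).hom.app N' := by
  rw [← mc_hom g f₁ N rfl, ← mc_inv g f₂ N' rfl]
  rfl

theorem arr_pullHom {Z W : Scheme.{u}} {N N' : X.Modules} {f₁ f₂ : Z ⟶ X}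
    (φ : (Scheme.Modules.pullback f₁).obj N ⟶ (Scheme.Modules.pullback f₂).obj N')
    (g : W ⟶ Z) (gf₁ gf₂ : W ⟶ X) (h₁ : g ≫ f₁ = gf₁) (h₂ : g ≫ f₂ = gf₂) :
    ∃ c : ob W ((Scheme.Modules.pullback gf₁).obj N) ⟶ ob Z ((Scheme.Modules.pullback f₁).obj N),
      c.base = g ∧ c ≫ cart f₁ N = cart gf₁ N ∧
      arr gf₂ (Pseudofunctor.LocallyDiscreteOpToCat.pullHom (F := Desc.modPF.{u}) (M₁ := N) (M₂ := N') φ g gf₁ gf₂ h₁ h₂) =
        c ≫ arr f₂ φ := by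
  subst h₁ h₂
  refine ⟨arr g ((Scheme.Modules.pullbackComp g f₁).inv.app N), rfl, comp_inv_cart g f₁ N, ?_⟩
  rw [pullHom_eq, arr_comp_arr]
  rfl

/-- The descent datum of Mathlib. -/
def toDD : Desc.modPF.{u}.DescentData (fun _ : PUnit.{u+1} => f) where
  obj _ := L
  hom _ q _ _ f₁ f₂ h₁ h₂ := D.homDD f₁ f₂ (h₁.trans h₂.symm)
  pullHom_hom _ _ g q q' hq _ _ f₁ f₂ hf₁ hf₂ gf₁ gf₂ hgf₁ hgf₂ := by
    obtain ⟨c, hc₁, hc₂, hc₃⟩ := arr_pullHom (D.homDD f₁ f₂ (hf₁.trans hf₂.symm)) g gf₁ gf₂ hgf₁ hgf₂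
    refine arr_inj (hc₃.trans ?_)
    refine Eq.trans ?_ (D.arr_homDD _ _ _).symm
    rw [arr_homDD]
    exact (D.comp_tr c (cart f₁ L) f₂ (hf₁.trans hf₂.symm)).trans (D.tr_congr _ hc₂ (by rw [hc₁, hgf₂]; rfl))
  hom_self _ q _ g hg := by
    refine arr_inj ((D.arr_homDD _ _ _).trans ?_)
    exact D.tr_self _
  hom_comp _ q _ _ _ f₁ f₂ f₃ hf₁ hf₂ hf₃ := by
    refine arr_inj ((vert_arr _ _ _).symm.trans (Eq.trans ?_ (D.arr_homDD _ _ _).symm))
    have e := D.arr_homDD f₂ f₃ (hf₂.trans hf₃.symm)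
    refine (congrArg (fun z => vert (D.homDD f₁ f₂ (hf₁.trans hf₂.symm)) ≫ z) e).trans ?_
    refine (D.comp_tr _ (cart f₂ L) f₃ (hf₂.trans hf₃.symm)).trans ?_
    refine Eq.trans ?_ (D.tr_tr (cart f₁ L) f₂ f₃ (hf₁.trans hf₂.symm) (hf₂.trans hf₃.symm))
    refine D.tr_congr _ ?_ (Category.id_comp _)
    exact (vert_cart _ _).trans (D.arr_homDD _ _ _)

end Datum

theorem mapComp_hom {X Z W : Scheme.{u}} {L : X.Modules} (g : W ⟶ Z) (a : Z ⟶ X) (ga : W ⟶ X) (h : g ≫ a = ga)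
    (h' : a.op.toLoc ≫ g.op.toLoc = ga.op.toLoc) :
    arr g (gmch Desc.modPF.{u} L g a ga h') ≫ cart a L = cart ga L := by
  subst h
  exact (congrArg (fun z => arr g z ≫ cart a L) (mc_hom g a L h')).trans (comp_inv_cart g a L)

theorem mapComp_inv {X Z W : Scheme.{u}} {L : X.Modules} (g : W ⟶ Z) (a : Z ⟶ X) (ga : W ⟶ X) (h : g ≫ a = ga)
    (h' : a.op.toLoc ≫ g.op.toLoc = ga.op.toLoc) :
    arr ga (gmci Desc.modPF.{u} L g a ga h') = cart g ((Scheme.Modules.pullback a).obj L) ≫ cart a L := by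
  subst h
  exact (congrArg (fun z => arr (g ≫ a) z) (mc_inv g a L h')).trans (cart_comp_cart g a L).symm

/-- The comparison isomorphism `f₁^* f^* M ⟶ f₂^* f^* M` of the canonical descent datum. -/
def kap {X Y Z : Scheme.{u}} (f : X ⟶ Y) (M : Y.Modules) (q : Z ⟶ Y) (f₁ f₂ : Z ⟶ X) (w₁ : f₁ ≫ f = q) (w₂ : f₂ ≫ f = q) :
    (Scheme.Modules.pullback f₁).obj ((Scheme.Modules.pullback f).obj M) ⟶
      (Scheme.Modules.pullback f₂).obj ((Scheme.Modules.pullback f).obj M) :=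
  gkap Desc.modPF.{u} f M q f₁ f₂ w₁ w₂

theorem arr_kap_aux {Y Z : Scheme.{u}} {X : Scheme.{u}} {f : X ⟶ Y} {M : Y.Modules} {f₂ : Z ⟶ X} {q : Z ⟶ Y}
    {N : Z.Modules} {a : N ⟶ (Scheme.Modules.pullback q).obj M}
    {b : (Scheme.Modules.pullback q).obj M ⟶ (Scheme.Modules.pullback f₂).obj ((Scheme.Modules.pullback f).obj M)}
    {r : ob Z N ⟶ ob Y M} (ha : arr q a = r) (hb : arr f₂ b ≫ cart f M = cart q M) :
    arr f₂ (a ≫ b) ≫ cart f M = r := by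
  rw [← vert_arr, Category.assoc, hb, vert_cart, ha]

theorem arr_kap {X Y Z : Scheme.{u}} (f : X ⟶ Y) (M : Y.Modules) (q : Z ⟶ Y) (f₁ f₂ : Z ⟶ X) (w₁ : f₁ ≫ f = q) (w₂ : f₂ ≫ f = q) :
    arr f₂ (kap f M q f₁ f₂ w₁ w₂) ≫ cart f M = cart f₁ _ ≫ cart f M :=
  arr_kap_aux (mapComp_inv f₁ f q w₁ _) (mapComp_hom f₂ f q w₂ _)

end K999.EDesc
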