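import Mathlib.RingTheory.Coalgebra.Convolution
import Mathlib.RingTheory.Coalgebra.GroupLike
import Mathlib.LinearAlgebra.Dual.Lemmas
import Mathlib.FieldTheory.IsAlgClosed.Basic
import Mathlib.LinearAlgebra.TensorProduct.Basis

/-!
# Group-like elements of finite cocommutative coalgebras

A non-zero finite-dimensional cocommutative coalgebra over an algebraically closed field has a group-like element.
-/

set_option autoImplicit false
universe u v

open TensorProduct Coalgebra

noncomputable section

namespace K999.GrpLike

variable {k : Type u} [Field k] [IsAlgClosed k]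

/-- A non-zero finite commutative algebra over an algebraically closed field has a rational point. -/
theorem exists_algHom (D : Type v) [CommRing D] [Algebra k D] [Module.Finite k D] [Nontrivial D] :
    Nonempty (D →ₐ[k] k) := by
  obtain ⟨m, hm⟩ := Ideal.exists_maximal D
  let _ : Field (D ⧸ m) := Ideal.Quotient.field m
  have h1 : Module.Finite k (D ⧸ m) := Module.Finite.of_surjective (Ideal.Quotient.mkₐ k m).toLinearMap
    (Ideal.Quotient.mkₐ_surjective k m)
  have h2 : Algebra.IsAlgebraic k (D ⧸ m) := Algebra.IsAlgebraic.of_finite k (D ⧸ m)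
  exact ⟨(IsAlgClosed.lift (R := k) (S := D ⧸ m) (M := k)).comp (Ideal.Quotient.mkₐ k m)⟩

variable {C : Type v} [AddCommGroup C] [Module k C] [Coalgebra k C]

omit [IsAlgClosed k] [Coalgebra k C] in
theorem eq_zero_of_forall [Module.Finite k C] (z : C ⊗[k] C)
    (h : ∀ φ ψ : C →ₗ[k] k, LinearMap.mul' k k (TensorProduct.map φ ψ z) = 0) : z = 0 := by
  let e := Module.finBasis k C
  apply (e.tensorProduct e).ext_elem
  rintro ⟨i, j⟩
  have key : (e.tensorProduct e).coord (i, j) = LinearMap.mul' k k ∘ₗ TensorProduct.map (e.coord i) (e.coord j) := by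
    apply TensorProduct.ext'
    intro x y
    simp [Module.Basis.tensorProduct_repr_tmul_apply, mul_comm]
  have h1 := LinearMap.congr_fun key z
  rw [map_zero, Finsupp.zero_apply]
  exact h1.trans (h (e.coord i) (e.coord j))

/-- A non-zero finite-dimensional cocommutative coalgebra over an algebraically closed field has a group-like
element. -/
theorem exists_groupLike [Module.Finite k C] [Nontrivial C] [IsCocomm k C] :
    ∃ b : C, counit (R := k) b = 1 ∧ comul (R := k) b = b ⊗ₜ[k] b := by
  let D := WithConv (C →ₗ[k] k)
  have hfin : Module.Finite k D := Module.Finite.equiv (WithConv.linearEquiv k (C →ₗ[k] k)).symm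
  have hnt : Nontrivial D := by
    have : Nontrivial (Module.Dual k C) := inferInstance
    exact inferInstanceAs (Nontrivial (WithConv (Module.Dual k C)))
  obtain ⟨χ⟩ := exists_algHom (k := k) D
  let χ' : Module.Dual k (Module.Dual k C) := 
    { toFun := fun φ => χ (WithConv.toConv φ)
      map_add' := fun φ ψ => map_add χ _ _
      map_smul' := fun a φ => map_smul χ a _ }
  let b : C := (Module.evalEquiv k C).symm χ'
  have hb : ∀ φ : C →ₗ[k] k, φ b = χ (WithConv.toConv φ) := fun φ => 
    Module.apply_evalEquiv_symm_apply k C φ χ'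
  refine ⟨b, ?_, ?_⟩
  · have h1 := hb (counit (R := k) (A := C))
    rw [h1, ← map_one χ]
    congr 1
  · rw [← sub_eq_zero]
    apply eq_zero_of_forall
    intro φ ψ
    rw [map_sub, map_sub, TensorProduct.map_tmul, LinearMap.mul'_apply, hb, hb, ← map_mul, sub_eq_zero]
    have h1 := hb (WithConv.toConv φ * WithConv.toConv ψ : D).ofConv
    rw [WithConv.toConv_ofConv] at h1
    rw [← h1]
    rfl

end K999.GrpLike
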