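import Groth.Agent.ThetaGrp.K999.Act
import Groth.Agent.ThetaGrp.K999.EDesc2

/-!
# Lifts of the kernel to the theta group and descent of modules

* `KLift L i`: a family of theta points over the points of `i : N ⟶ A`, compatible with base change and products.
* `KLift.ofPMor`: the canonical lift of the kernel of a morphism of pairs.
* `KLift.datum`: the descent datum on `L` relative to `f` with kernel `N`.
* `KLift.exists_descent`: descent of `L` along a faithfully flat homomorphism with kernel `N`.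
-/

set_option autoImplicit false
universe u

open CategoryTheory CategoryTheory.Limits MonoidalCategory CartesianMonoidalCategory MonObj AlgebraicGeometry
open ThetaGrp K999.Cart K999.Rel K999.Ker K999.Act K999.EDesc

noncomputable section

namespace K999.KL

variable {S : Scheme.{u}} {A B N : Over S} [GrpObj A] [GrpObj B] [GrpObj N]
  {L : A.left.Modules} {M : B.left.Modules}

/-- A family of theta points over the points of `N`, compatible with base change and products. -/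
structure KLift (L : A.left.Modules) (i : N ⟶ A) where
  /-- the lifts -/
  σ : ∀ {T : Over S}, (T ⟶ N) → thetaPts A L T
  pt_σ : ∀ {T : Over S} (n : T ⟶ N), pt (σ n) = n ≫ i
  bc_σ : ∀ {T T' : Over S} (h : T' ⟶ T) (n : T ⟶ N), bc h (σ n) = σ (h ≫ n)
  σ_mul : ∀ {T : Over S} (n₁ n₂ : T ⟶ N), σ (n₁ * n₂) = σ n₂ * σ n₁

namespace KLift

variable {i : N ⟶ A} (s : KLift L i)

theorem σ_one {T : Over S} : s.σ (1 : T ⟶ N) = 1 := by
  have h := s.σ_mul (1 : T ⟶ N) 1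
  rw [_root_.one_mul] at h
  exact (mul_eq_left.mp h.symm)

/-- The canonical lift of the kernel. -/
def ofPMor [IsMonHom i] (m : PMor A B L M) (hN : AlgGrp.IsKernel i m.f) : KLift L i where
  σ n := can m (n ≫ i) (ker_comp hN n)
  pt_σ n := pt_can _
  bc_σ h n := by
    rw [bc_can]
    exact can_congr _ (Category.assoc _ _ _).symm
  σ_mul n₁ n₂ := by
    rw [can_mul]
    exact can_congr _ (MonObj.mul_comp _ _ _)

end KLift

/-- Arrows with the same image in `(B, M)` differ by the canonical lift of a point of the kernel. -/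
theorem eq_act_can (m : PMor A B L M) {T : Over S} {K : T.left.Modules} {α₁ α₂ : ob T.left K ⟶ ob A.left L}
    {a₁ a₂ : T ⟶ A} (h₁ : α₁.base = a₁.left) (h₂ : α₂.base = a₂.left) (h : α₁ ≫ m.c = α₂ ≫ m.c)
    (x : T ⟶ A) (hx : x ≫ m.f = 1) (ha : a₁ * x = a₂) :
    α₂ = act (can m x hx) a₁ (𝟙 T) α₁ h₁ := by
  refine m.cart.ext ?_ ?_
  · rw [act_base, h₂, pt_can, Category.id_comp, ha]
  · have hr : Rel m (𝟙 T) (can m x hx) 1 := rel_pb _
    rw [act_rel hr, ← h]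
    exact (act_one _).symm

omit [GrpObj N] in
/-- Points of the kernel measuring the difference. -/
theorem exists_ker {f : A ⟶ B} [IsMonHom f] {i : N ⟶ A} (hN : AlgGrp.IsKernel i f) {T : Over S} {a₁ a₂ : T ⟶ A}
    (w : a₁ ≫ f = a₂ ≫ f) : ∃ n : T ⟶ N, a₁ * (n ≫ i) = a₂ := by
  obtain ⟨n, hn⟩ := ker_lift hN (a₁⁻¹ * a₂) (by rw [MonObj.mul_comp, GrpObj.inv_comp, w, inv_mul_cancel])
  exact ⟨n, by rw [hn, mul_inv_cancel_left]⟩

omit [GrpObj N] in
theorem ker_ext {f : A ⟶ B} {i : N ⟶ A} (hN : AlgGrp.IsKernel i f) {T : Over S} {a : T ⟶ A} {n n' : T ⟶ N}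
    (h : a * (n ≫ i) = a * (n' ≫ i)) : n = n' := ker_mono hN (mul_left_cancel h)

section Trans

variable {f : A ⟶ B} [IsMonHom f] {i : N ⟶ A} [IsMonHom i] (hN : AlgGrp.IsKernel i f) (s : KLift L i)

/-- The point of the kernel measuring the difference. -/
def dif {T : Over S} (a₁ a₂ : T ⟶ A) (w : a₁ ≫ f = a₂ ≫ f) : T ⟶ N := (exists_ker hN w).choose

theorem mul_dif {T : Over S} {a₁ a₂ : T ⟶ A} (w : a₁ ≫ f = a₂ ≫ f) : a₁ * (dif hN a₁ a₂ w ≫ i) = a₂ :=
  (exists_ker hN w).choose_spec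

theorem eq_dif {T : Over S} {a₁ a₂ : T ⟶ A} (w : a₁ ≫ f = a₂ ≫ f) {n : T ⟶ N} (h : a₁ * (n ≫ i) = a₂) :
    n = dif hN a₁ a₂ w := ker_ext hN (h.trans (mul_dif hN w).symm)

theorem comp_dif {T T' : Over S} (h : T' ⟶ T) {a₁ a₂ : T ⟶ A} (w : a₁ ≫ f = a₂ ≫ f)
    (w' : (h ≫ a₁) ≫ f = (h ≫ a₂) ≫ f) : h ≫ dif hN a₁ a₂ w = dif hN (h ≫ a₁) (h ≫ a₂) w' := by
  apply eq_dif
  rw [Category.assoc, ← comp_mul, mul_dif]

/-- Transport of arrows by the lift of the kernel. -/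
def trT {T : Over S} {K : T.left.Modules} (α : ob T.left K ⟶ ob A.left L) (a₁ a₂ : T ⟶ A)
    (h₁ : α.base = a₁.left) (w : a₁ ≫ f = a₂ ≫ f) : ob T.left K ⟶ ob A.left L :=
  act (s.σ (dif hN a₁ a₂ w)) a₁ (𝟙 T) α h₁

theorem trT_base {T : Over S} {K : T.left.Modules} (α : ob T.left K ⟶ ob A.left L) (a₁ a₂ : T ⟶ A)
    (h₁ : α.base = a₁.left) (w : a₁ ≫ f = a₂ ≫ f) : (trT hN s α a₁ a₂ h₁ w).base = a₂.left := by
  rw [trT, act_base, s.pt_σ, Category.id_comp, mul_dif]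

theorem comp_trT {T T' : Over S} {K : T.left.Modules} {K' : T'.left.Modules} (h : T' ⟶ T)
    (ζ : ob T'.left K' ⟶ ob T.left K) (hζ : ζ.base = h.left) (α : ob T.left K ⟶ ob A.left L) (a₁ a₂ : T ⟶ A)
    (h₁ : α.base = a₁.left) (w : a₁ ≫ f = a₂ ≫ f) :
    ζ ≫ trT hN s α a₁ a₂ h₁ w = trT hN s (ζ ≫ α) (h ≫ a₁) (h ≫ a₂) (base_comp h ζ hζ h₁)
      (by rw [Category.assoc, w, Category.assoc]) := by
  rw [trT, comp_act h ζ hζ h₁, trT, ← comp_dif hN h w, ← s.bc_σ, act_bc]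
  exact act_congr rfl rfl (by rw [Category.comp_id, Category.id_comp]) rfl _

theorem trT_self {T : Over S} {K : T.left.Modules} (α : ob T.left K ⟶ ob A.left L) (a₁ : T ⟶ A)
    (h₁ : α.base = a₁.left) : trT hN s α a₁ a₁ h₁ rfl = α := by
  have h : dif hN a₁ a₁ rfl = 1 := (eq_dif hN rfl (by rw [MonObj.one_comp, _root_.mul_one])).symm
  rw [trT, h, s.σ_one, act_one]

theorem trT_trT {T : Over S} {K : T.left.Modules} (α : ob T.left K ⟶ ob A.left L) (a₁ a₂ a₃ : T ⟶ A)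
    (h₁ : α.base = a₁.left) (w : a₁ ≫ f = a₂ ≫ f) (w' : a₂ ≫ f = a₃ ≫ f) :
    trT hN s (trT hN s α a₁ a₂ h₁ w) a₂ a₃ (trT_base hN s _ _ _ _ _) w' =
      trT hN s α a₁ a₃ h₁ (w.trans w') := by
  have h : dif hN a₁ a₂ w * dif hN a₂ a₃ w' = dif hN a₁ a₃ (w.trans w') := by
    apply eq_dif
    rw [MonObj.mul_comp, ← _root_.mul_assoc, mul_dif, mul_dif]
  have e : a₂ = a₁ * (𝟙 T ≫ pt (s.σ (dif hN a₁ a₂ w))) := by
    rw [s.pt_σ, Category.id_comp, mul_dif]
  change act (s.σ (dif hN a₂ a₃ w')) a₂ (𝟙 T) (act (s.σ (dif hN a₁ a₂ w)) a₁ (𝟙 T) α h₁) _ =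
    act (s.σ (dif hN a₁ a₃ (w.trans w'))) a₁ (𝟙 T) α h₁
  refine (act_congr rfl e rfl rfl _).trans ?_
  refine (act_act h₁).trans ?_
  exact act_congr (by rw [← s.σ_mul, h]) rfl rfl rfl _

theorem trT_congr {T : Over S} {K : T.left.Modules} {α α' : ob T.left K ⟶ ob A.left L} {a₁ a₁' a₂ a₂' : T ⟶ A}
    (h₁ : α.base = a₁.left) (w : a₁ ≫ f = a₂ ≫ f) (hα : α = α') (ha₁ : a₁ = a₁') (ha₂ : a₂ = a₂') :
    trT hN s α a₁ a₂ h₁ w = trT hN s α' a₁' a₂' (by rw [← hα, ← ha₁, h₁]) (by rw [← ha₁, ← ha₂, w]) := by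
  subst hα; subst ha₁; subst ha₂; rfl

theorem trT_indep {Z : Scheme.{u}} {K : Z.Modules} {p p' : Z ⟶ S} (hp : p = p') {α : ob Z K ⟶ ob A.left L}
    {b₁ b₂ b₁' b₂' : Z ⟶ A.left} (e₁ : b₁ = b₁') (e₂ : b₂ = b₂') (h₁ : α.base = b₁) (h₁' : α.base = b₁')
    (hb₁ : b₁ ≫ A.hom = p) (hb₂ : b₂ ≫ A.hom = p) (hb₁' : b₁' ≫ A.hom = p') (hb₂' : b₂' ≫ A.hom = p')
    (w : (Over.homMk b₁ hb₁ : Over.mk p ⟶ A) ≫ f = Over.homMk b₂ hb₂ ≫ f)
    (w' : (Over.homMk b₁' hb₁' : Over.mk p' ⟶ A) ≫ f = Over.homMk b₂' hb₂' ≫ f) :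
    trT (T := Over.mk p) hN s α (Over.homMk b₁ hb₁) (Over.homMk b₂ hb₂) h₁ w =
      trT (T := Over.mk p') hN s α (Over.homMk b₁' hb₁') (Over.homMk b₂' hb₂') h₁' w' := by
  subst hp; subst e₁; subst e₂; rfl

omit [GrpObj A] [GrpObj B] [IsMonHom f] in
theorem hom_w {Z : Scheme.{u}} {a b : Z ⟶ A.left} (w : a ≫ f.left = b ≫ f.left) :
    b ≫ A.hom = a ≫ A.hom := by
  rw [← Over.w f, ← Category.assoc, ← w, Category.assoc]

/-- The descent datum. -/
def datum : Datum f.left L where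
  tr {Z K} α a w := trT (T := Over.mk (α.base ≫ A.hom)) hN s α (Over.homMk α.base rfl)
    (Over.homMk a (hom_w w)) rfl (Over.OverMorphism.ext w)
  tr_base α a w := trT_base (T := Over.mk (α.base ≫ A.hom)) hN s α (Over.homMk α.base rfl)
    (Over.homMk a (hom_w w)) rfl (Over.OverMorphism.ext w)
  comp_tr {Z Z' K K'} ζ α a w := by
    have e₁ : ζ.base ≫ a ≫ A.hom = ζ.base ≫ α.base ≫ A.hom := by rw [hom_w w]
    refine (comp_trT (T := Over.mk (α.base ≫ A.hom)) (T' := Over.mk (ζ.base ≫ α.base ≫ A.hom)) hN s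
      (Over.homMk ζ.base rfl) ζ rfl α (Over.homMk α.base rfl) (Over.homMk a (hom_w w)) rfl
      (Over.OverMorphism.ext w)).trans ?_
    refine (trT_congr (T := Over.mk (ζ.base ≫ α.base ≫ A.hom)) hN s
      (a₁' := Over.homMk (ζ.base ≫ α.base) (Category.assoc _ _ _))
      (a₂' := Over.homMk (ζ.base ≫ a) ((Category.assoc _ _ _).trans e₁)) _ _ rfl
      (Over.OverMorphism.ext rfl) (Over.OverMorphism.ext rfl)).trans ?_
    exact trT_indep hN s (Category.assoc _ _ _).symm rfl rfl rfl rfl _ _ _ _ _ _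
  tr_self α := trT_self (T := Over.mk (α.base ≫ A.hom)) hN s α (Over.homMk α.base rfl) rfl
  tr_tr {Z K} α a b w w' := by
    have hb := trT_base (T := Over.mk (α.base ≫ A.hom)) hN s α (Over.homMk α.base rfl)
      (Over.homMk a (hom_w w)) rfl (Over.OverMorphism.ext w)
    have e₁ : a ≫ A.hom = α.base ≫ A.hom := hom_w w
    have e₂ : b ≫ A.hom = α.base ≫ A.hom := (hom_w w').trans (hom_w w)
    refine Eq.trans ?_ (trT_trT (T := Over.mk (α.base ≫ A.hom)) hN s α (Over.homMk α.base rfl)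
      (Over.homMk a (hom_w w)) (Over.homMk b e₂) rfl (Over.OverMorphism.ext w) (Over.OverMorphism.ext w'))
    exact trT_indep hN s ((congrArg (· ≫ A.hom) hb).trans e₁) hb rfl rfl hb _ _ _ _ _ _

theorem datum_tr {T : Over S} {K : T.left.Modules} (α : ob T.left K ⟶ ob A.left L) (a₁ a₂ : T ⟶ A)
    (h₁ : α.base = a₁.left) (w : a₁ ≫ f = a₂ ≫ f) (w' : α.base ≫ f.left = a₂.left ≫ f.left) :
    (datum hN s).tr α a₂.left w' = trT hN s α a₁ a₂ h₁ w := by
  have hT : Over.mk T.hom = T := rfl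
  have e₁ : a₁.left ≫ A.hom = T.hom := Over.w a₁
  have e₂ : a₂.left ≫ A.hom = T.hom := Over.w a₂
  change trT (T := Over.mk (α.base ≫ A.hom)) hN s α (Over.homMk α.base rfl)
    (Over.homMk a₂.left (hom_w w')) rfl (Over.OverMorphism.ext w') =
    trT (T := Over.mk T.hom) hN s α (Over.homMk a₁.left e₁) (Over.homMk a₂.left e₂) h₁ w
  exact trT_indep hN s (by rw [h₁, e₁]) h₁ rfl rfl h₁ _ _ _ _ _ _

end Trans

/-- Descent of `L` along a faithfully flat homomorphism with kernel `N`. -/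
theorem exists_descent (f : A ⟶ B) [IsMonHom f] [Flat f.left] [Surjective f.left] [QuasiCompact f.left]
    {i : N ⟶ A} [IsMonHom i] (hN : AlgGrp.IsKernel i f) (hL : L.IsQuasicoherent) (s : KLift L i) :
    ∃ (M : B.left.Modules) (m : PMor A B L M) (hf : m.f = f), M.IsQuasicoherent ∧
      ∀ {T : Over S} (n : T ⟶ N), s.σ n = can m (n ≫ i) (by rw [hf]; exact ker_comp hN n) := by
  obtain ⟨M, c, hM, hcb, hc, hcc⟩ := (datum hN s).effective hL
  let m : PMor A B L M := ⟨f, inferInstance, c, hcb, hc⟩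
  refine ⟨M, m, rfl, hM, ?_⟩
  intro T n
  have hn : (n ≫ i) ≫ f = 1 := ker_comp hN n
  have hb : (s.σ n).1.hom.base = (transl A (n ≫ i)).left := by
    have h : IsOverPt (s.σ n) (pt (s.σ n)) := over_pt _
    rw [s.pt_σ] at h
    exact h
  have w : fst A T ≫ f = (transl A (n ≫ i) ≫ fst A T) ≫ f := by
    rw [tr_fst, MonObj.mul_comp, Category.assoc, hn, MonObj.comp_one, _root_.mul_one]
  have key : (s.σ n).1.hom ≫ pr A L T ≫ c = pr A L T ≫ c := by
    have w' : (pr A L T).base ≫ f.left = (transl A (n ≫ i) ≫ fst A T).left ≫ f.left := by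
      rw [pr_base, ← Over.comp_left, w, Over.comp_left]
    have h1 := hcc (pr A L T) (transl A (n ≫ i) ≫ fst A T).left w'
    refine Eq.trans ?_ h1
    rw [← Category.assoc]
    congr 1
    rw [datum_tr (T := A ⊗ T) hN s (pr A L T) (fst A T) (transl A (n ≫ i) ≫ fst A T) rfl w w', ← act_pr]
    have h2 : dif hN (fst A T) (transl A (n ≫ i) ≫ fst A T) w = snd A T ≫ n := by
      symm
      apply eq_dif
      rw [tr_fst, Category.assoc]
    change _ = act (s.σ (dif hN (fst A T) (transl A (n ≫ i) ≫ fst A T) w)) (fst A T) (𝟙 _) (pr A L T) rfl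
    rw [h2, ← s.bc_σ]
    have e := act_bc (Z := A ⊗ T) (β := s.σ n) (a := fst A T) (g := snd A T) (t' := 𝟙 (A ⊗ T)) (α := pr A L T)
      (pr_base A L T)
    refine Eq.trans ?_ e.symm
    exact act_congr rfl rfl (Category.id_comp _).symm rfl _
  have hrel : Rel m (𝟙 T) (s.σ n) 1 := by
    change (s.σ n).1.hom ≫ m.FF (𝟙 T) = m.FF (𝟙 T) ≫ (1 : thetaPts B M T).1.hom
    rw [hom_one, Category.comp_id]
    apply (isCart_pr B M T).ext
    · change (s.σ n).1.hom.base ≫ (m.FF (𝟙 T)).base = (m.FF (𝟙 T)).base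
      rw [hb, m.FF_base, ← Over.comp_left, transl_square m.f (𝟙 T) (n ≫ i) 1 (by
        change (n ≫ i) ≫ f = _
        rw [hn, MonObj.comp_one]), transl_one, Category.comp_id]
    · rw [Category.assoc, m.FF_pr]
      exact key
  exact rel_unique hrel (rel_pb _) ((s.pt_σ n).trans (pt_can _).symm)

end K999.KL
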