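import Groth.Agent.ThetaGrp.K999.Cart

/-!
# Theta points and morphisms of pairs (group scheme, module)

* `pr A L T : thetaObj A L T ⟶ (A, L)` the projection; `bcLift_pr`.
* `PMor A B L' L`: a homomorphism `f : A ⟶ B` with a cartesian arrow `(A, L') ⟶ (B, L)` over it.
* `m.FF g : thetaObj A L' T' ⟶ thetaObj B L T` for `g : T' ⟶ T`.
* `Rel m g γ β`: the point `γ` of `G(L')(T')` is the pull back of the point `β` of `G(L)(T)`.
-/

set_option autoImplicit false
universe u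

open CategoryTheory CategoryTheory.Limits MonoidalCategory CartesianMonoidalCategory MonObj AlgebraicGeometry
open ThetaGrp K999.Cart

noncomputable section

namespace K999.Rel

variable {S : Scheme.{u}}

section Translations

variable {A B : Over S} [GrpObj A] [GrpObj B]

@[reassoc]
theorem tr_fst {T : Over S} (x : T ⟶ A) : transl A x ≫ fst A T = fst A T * (snd A T ≫ x) :=
  transl_fst A x

@[reassoc]
theorem tr_snd {T : Over S} (x : T ⟶ A) : transl A x ≫ snd A T = snd A T := transl_snd A x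

theorem sec_tr {T : Over S} (z : T ⟶ A) : lift (1 : T ⟶ A) (𝟙 T) ≫ transl A z ≫ fst A T = z := by
  rw [tr_fst, comp_mul, lift_fst, lift_snd_assoc, Category.id_comp, _root_.one_mul]

theorem transl_inj {T : Over S} {x y : T ⟶ A} (h : (transl A x).left = (transl A y).left) : x = y := by
  have h1 : transl A x = transl A y := Over.OverMorphism.ext h
  rw [← sec_tr x, ← sec_tr y, h1]

theorem transl_square (f : A ⟶ B) [IsMonHom f] {T T' : Over S} (g : T' ⟶ T) (x : T' ⟶ A) (y : T ⟶ B)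
    (w : x ≫ f = g ≫ y) : transl A x ≫ (f ⊗ₘ g) = (f ⊗ₘ g) ≫ transl B y := by
  apply CartesianMonoidalCategory.hom_ext
  · rw [Category.assoc, tensorHom_fst, tr_fst_assoc, Category.assoc, tr_fst, comp_mul, tensorHom_fst,
      tensorHom_snd_assoc, MonObj.mul_comp, Category.assoc, w]
  · rw [Category.assoc, tensorHom_snd, tr_snd_assoc, Category.assoc, tr_snd, tensorHom_snd]

theorem point_eq (f : A ⟶ B) [IsMonHom f] {T T' : Over S} (g : T' ⟶ T) (x : T' ⟶ A) (y : T ⟶ B)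
    (h : transl A x ≫ (f ⊗ₘ g) = (f ⊗ₘ g) ≫ transl B y) : x ≫ f = g ≫ y := by
  have h1 : lift (1 : T' ⟶ A) (𝟙 T') ≫ (transl A x ≫ (f ⊗ₘ g)) ≫ fst B T = x ≫ f := by
    rw [Category.assoc, tensorHom_fst, tr_fst_assoc, MonObj.mul_comp, comp_mul, lift_fst_assoc,
      Category.assoc, lift_snd_assoc, Category.id_comp, MonObj.one_comp, _root_.one_mul]
  have h2 : lift (1 : T' ⟶ A) (𝟙 T') ≫ ((f ⊗ₘ g) ≫ transl B y) ≫ fst B T = g ≫ y := by
    rw [Category.assoc, tr_fst, comp_mul, comp_mul, tensorHom_fst, tensorHom_snd_assoc,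
      lift_fst_assoc, lift_snd_assoc, Category.id_comp, MonObj.one_comp, _root_.one_mul]
  rw [← h1, ← h2, h]

end Translations

section Points

variable {A : Over S} [GrpObj A] {L : A.left.Modules} {T : Over S}

theorem exists_pt (β : thetaPts A L T) : ∃ x : T ⟶ A, IsOverPt β x := β.2

/-- The underlying point. -/
def pt (β : thetaPts A L T) : T ⟶ A := (exists_pt β).choose

theorem over_pt (β : thetaPts A L T) : IsOverPt β (pt β) := (exists_pt β).choose_spec

theorem over_unique {β : thetaPts A L T} {x y : T ⟶ A} (hx : IsOverPt β x) (hy : IsOverPt β y) :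
    x = y := transl_inj (hx.symm.trans hy)

theorem over_iff {β : thetaPts A L T} {x : T ⟶ A} : IsOverPt β x ↔ pt β = x :=
  ⟨fun h => over_unique (over_pt β) h, fun h => h ▸ over_pt β⟩

theorem hom_mul (β₁ β₂ : thetaPts A L T) : (β₁ * β₂).1.hom = β₂.1.hom ≫ β₁.1.hom := rfl

theorem hom_one : (1 : thetaPts A L T).1.hom = 𝟙 _ := rfl

theorem ext_hom {β₁ β₂ : thetaPts A L T} (h : β₁.1.hom = β₂.1.hom) : β₁ = β₂ :=
  Subtype.ext (Iso.ext h)

theorem over_mul {β₁ β₂ : thetaPts A L T} {x₁ x₂ : T ⟶ A} (h₁ : IsOverPt β₁ x₁)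
    (h₂ : IsOverPt β₂ x₂) : IsOverPt (β₁ * β₂) (x₂ * x₁) := by
  change (β₁ * β₂).1.hom.base = _
  rw [hom_mul, transl_mul, Over.comp_left]
  change β₂.1.hom.base ≫ β₁.1.hom.base = _
  rw [h₁, h₂]

theorem over_one : IsOverPt (1 : thetaPts A L T) 1 := by
  change (𝟙 (thetaObj A L T)  : thetaObj A L T ⟶ thetaObj A L T).base = _
  rw [transl_one]
  rfl

theorem pt_mul (β₁ β₂ : thetaPts A L T) : pt (β₁ * β₂) = pt β₂ * pt β₁ :=
  over_iff.mp (over_mul (over_pt β₁) (over_pt β₂))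

theorem pt_one : pt (1 : thetaPts A L T) = 1 := over_iff.mp over_one

theorem pt_inv (β : thetaPts A L T) : pt β⁻¹ = (pt β)⁻¹ := by
  have h : pt (β * β⁻¹) = 1 := by rw [mul_inv_cancel, pt_one]
  rw [pt_mul] at h
  exact eq_inv_of_mul_eq_one_left h

theorem over_inv {β : thetaPts A L T} {x : T ⟶ A} (h : IsOverPt β x) : IsOverPt β⁻¹ x⁻¹ := by
  rw [over_iff, pt_inv, over_iff.mp h]

end Points

/-- The projection `thetaObj A L T ⟶ (A, L)`. -/
def pr (A : Over S) [GrpObj A] (L : A.left.Modules) (T : Over S) : thetaObj A L T ⟶ ob A.left L :=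
  cart (fst A T).left L

theorem isCart_pr (A : Over S) [GrpObj A] (L : A.left.Modules) (T : Over S) : IsCart (pr A L T) :=
  isCart_cart _ _

@[simp]
theorem pr_base (A : Over S) [GrpObj A] (L : A.left.Modules) (T : Over S) :
    (pr A L T).base = (fst A T).left := rfl

theorem bcLift_pr (A : Over S) [GrpObj A] (L : A.left.Modules) {T G : Over S} (g : T ⟶ G) :
    bcLift A L g ≫ pr A L G = pr A L T :=
  arr_congr_comp_cart _ L

theorem bcLift_base (A : Over S) [GrpObj A] (L : A.left.Modules) {T G : Over S} (g : T ⟶ G) :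
    (bcLift A L g).base = (A ◁ g).left := rfl

/-- A morphism of pairs (group scheme, module): a homomorphism with a cartesian arrow over it. -/
structure PMor (A B : Over S) [GrpObj A] [GrpObj B] (L' : A.left.Modules) (L : B.left.Modules) where
  /-- the homomorphism -/
  f : A ⟶ B
  /-- it is a homomorphism -/
  isMonHom : IsMonHom f
  /-- the arrow on modules -/
  c : ob A.left L' ⟶ ob B.left L
  /-- the arrow lies over the homomorphism -/
  hc : c.base = f.left
  /-- the arrow is cartesian -/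
  cart : IsCart c

attribute [instance] PMor.isMonHom

namespace PMor

variable {A B C : Over S} [GrpObj A] [GrpObj B] [GrpObj C] {L₁ : A.left.Modules} {L₂ : B.left.Modules}
  {L₃ : C.left.Modules}

/-- The identity. -/
def id (A : Over S) [GrpObj A] (L : A.left.Modules) : PMor A A L L where
  f := 𝟙 A
  isMonHom := inferInstance
  c := 𝟙 _
  hc := rfl
  cart := IsCart.of_isIso _

/-- Composition. -/
def comp (m : PMor A B L₁ L₂) (n : PMor B C L₂ L₃) : PMor A C L₁ L₃ where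
  f := m.f ≫ n.f
  isMonHom := inferInstance
  c := m.c ≫ n.c
  hc := by
    rw [Over.comp_left, ← m.hc, ← n.hc]
    rfl
  cart := m.cart.comp n.cart

/-- The pair with the pulled back module. -/
def ofHom (f : A ⟶ B) [h : IsMonHom f] (L : B.left.Modules) :
    PMor A B ((Scheme.Modules.pullback f.left).obj L) L where
  f := f
  isMonHom := h
  c := Cart.cart f.left L
  hc := rfl
  cart := isCart_cart _ _

/-- An isomorphism of modules. -/
def ofIso {L L' : A.left.Modules} (e : L ≅ L') : PMor A A L L' where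
  f := 𝟙 A
  isMonHom := inferInstance
  c := ((Pseudofunctor.CoGrothendieck.ι modPF.{u} A.left).mapIso (X := L) (Y := L') e).hom
  hc := rfl
  cart := @IsCart.of_isIso (ob A.left L) (ob A.left L')
    ((Pseudofunctor.CoGrothendieck.ι modPF.{u} A.left).mapIso (X := L) (Y := L') e).hom (Iso.isIso_hom _)

variable (m : PMor A B L₁ L₂) {T T' : Over S} (g : T' ⟶ T)

theorem FF_aux : (pr A L₁ T' ≫ m.c).base = (m.f ⊗ₘ g).left ≫ (pr B L₂ T).base := by
  change (fst A T').left ≫ m.c.base = (m.f ⊗ₘ g).left ≫ (fst B T).left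
  rw [m.hc, ← Over.comp_left, ← Over.comp_left, tensorHom_fst]

/-- The arrow `(A × T', L₁) ⟶ (B × T, L₂)`. -/
def FF : thetaObj A L₁ T' ⟶ thetaObj B L₂ T :=
  (isCart_pr B L₂ T).lift (a' := thetaObj A L₁ T') (m.f ⊗ₘ g).left (pr A L₁ T' ≫ m.c) (m.FF_aux g)

theorem FF_base : (m.FF g).base = (m.f ⊗ₘ g).left := (isCart_pr B L₂ T).lift_base _ _ _

@[reassoc]
theorem FF_pr : m.FF g ≫ pr B L₂ T = pr A L₁ T' ≫ m.c := (isCart_pr B L₂ T).lift_comp _ _ _

theorem isCart_FF : IsCart (m.FF g) := by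
  refine (isCart_pr B L₂ T).of_comp ?_
  rw [FF_pr]
  exact (isCart_pr _ _ _).comp m.cart

theorem FF_unique {φ : thetaObj A L₁ T' ⟶ thetaObj B L₂ T} (h₁ : φ.base = (m.f ⊗ₘ g).left)
    (h₂ : φ ≫ pr B L₂ T = pr A L₁ T' ≫ m.c) : φ = m.FF g :=
  (isCart_pr B L₂ T).ext (h₁.trans (m.FF_base g).symm) (h₂.trans (m.FF_pr g).symm)

theorem FF_comp (n : PMor B C L₂ L₃) {T'' : Over S} (g' : T'' ⟶ T') :
    m.FF g' ≫ n.FF g = (m.comp n).FF (g' ≫ g) := by
  refine FF_unique _ _ ?_ ?_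
  · change (m.FF g').base ≫ (n.FF g).base = _
    rw [FF_base, FF_base, ← Over.comp_left, tensorHom_comp_tensorHom]
    rfl
  · rw [Category.assoc, FF_pr, FF_pr_assoc]
    rfl

theorem FF_id (A : Over S) [GrpObj A] (L : A.left.Modules) : (id A L).FF g = bcLift A L g := by
  refine ((id A L).FF_unique g ?_ ?_).symm
  · rw [bcLift_base]
    change _ = (𝟙 A ⊗ₘ g).left
    rw [id_tensorHom]
  · rw [bcLift_pr]
    exact (Category.comp_id _).symm

end PMor

section Rel

variable {A B C : Over S} [GrpObj A] [GrpObj B] [GrpObj C] {L₁ : A.left.Modules} {L₂ : B.left.Modules}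
  {L₃ : C.left.Modules}

set_option linter.dupNamespace false in
/-- `γ` is the pull back of `β` along `m` and `g`. -/
def Rel (m : PMor A B L₁ L₂) {T T' : Over S} (g : T' ⟶ T) (γ : thetaPts A L₁ T') (β : thetaPts B L₂ T) :
    Prop := γ.1.hom ≫ m.FF g = m.FF g ≫ β.1.hom

variable {m : PMor A B L₁ L₂} {T T' : Over S} {g : T' ⟶ T}

theorem rel_id_iff {L : A.left.Modules} {γ : thetaPts A L T'} {β : thetaPts A L T} :
    Rel (PMor.id A L) g γ β ↔ IsBaseChange γ g β := by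
  rw [Rel, PMor.FF_id]
  rfl

theorem rel_mul {γ₁ γ₂ : thetaPts A L₁ T'} {β₁ β₂ : thetaPts B L₂ T} (h₁ : Rel m g γ₁ β₁)
    (h₂ : Rel m g γ₂ β₂) : Rel m g (γ₁ * γ₂) (β₁ * β₂) := by
  rw [Rel] at *
  rw [hom_mul, hom_mul, Category.assoc, h₁, ← Category.assoc, h₂, Category.assoc]

theorem rel_one : Rel m g (1 : thetaPts A L₁ T') 1 := by
  rw [Rel, hom_one, hom_one, Category.id_comp, Category.comp_id]

theorem rel_inv {γ : thetaPts A L₁ T'} {β : thetaPts B L₂ T} (h : Rel m g γ β) :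
    Rel m g γ⁻¹ β⁻¹ := by
  rw [Rel] at *
  change γ.1.inv ≫ m.FF g = m.FF g ≫ β.1.inv
  have e1 : γ.1.inv ≫ γ.1.hom = 𝟙 _ := Iso.inv_hom_id γ.1
  have e2 : β.1.hom ≫ β.1.inv = 𝟙 _ := Iso.hom_inv_id β.1
  calc γ.1.inv ≫ m.FF g = γ.1.inv ≫ (m.FF g ≫ β.1.hom) ≫ β.1.inv := by
        rw [Category.assoc, e2, Category.comp_id]
    _ = m.FF g ≫ β.1.inv := by
        rw [← h, Category.assoc, ← Category.assoc, e1, Category.id_comp]

theorem rel_comp {n : PMor B C L₂ L₃} {T'' : Over S} {g' : T'' ⟶ T'} {γ : thetaPts A L₁ T''}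
    {β : thetaPts B L₂ T'} {α : thetaPts C L₃ T} (h : Rel m g' γ β) (h' : Rel n g β α) :
    Rel (m.comp n) (g' ≫ g) γ α := by
  rw [Rel] at *
  rw [← PMor.FF_comp, ← Category.assoc, h, Category.assoc, h', Category.assoc]

theorem rel_unique {γ γ' : thetaPts A L₁ T'} {β : thetaPts B L₂ T} (h : Rel m g γ β)
    (h' : Rel m g γ' β) (hp : pt γ = pt γ') : γ = γ' := by
  refine ext_hom ((m.isCart_FF g).ext ?_ (h.trans h'.symm))
  have h1 : IsOverPt γ (pt γ) := over_pt γ
  have h2 : IsOverPt γ' (pt γ') := over_pt γ'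
  rw [IsOverPt] at h1 h2
  rw [h1, h2, hp]

theorem rel_pt {γ : thetaPts A L₁ T'} {β : thetaPts B L₂ T} (h : Rel m g γ β) :
    pt γ ≫ m.f = g ≫ pt β := by
  apply point_eq
  apply Over.OverMorphism.ext
  have h1 : (γ.1.hom ≫ m.FF g).base = (m.FF g ≫ β.1.hom).base := by rw [h]
  change γ.1.hom.base ≫ (m.FF g).base = (m.FF g).base ≫ β.1.hom.base at h1
  have h2 : IsOverPt γ (pt γ) := over_pt γ
  have h3 : IsOverPt β (pt β) := over_pt β
  rw [IsOverPt] at h2 h3
  rw [PMor.FF_base, h2, h3] at h1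
  rw [Over.comp_left, Over.comp_left]
  exact h1

theorem lift_aux {x : T' ⟶ A} {y : T ⟶ B} (w : x ≫ m.f = g ≫ y) {φ : thetaObj B L₂ T ⟶ thetaObj B L₂ T}
    (hφ : φ.base = (transl B y).left) : (m.FF g ≫ φ).base = (transl A x).left ≫ (m.FF g).base := by
  change (m.FF g).base ≫ φ.base = _
  rw [PMor.FF_base, hφ, ← Over.comp_left, ← Over.comp_left, transl_square m.f g x y w]

theorem rel_exists (m : PMor A B L₁ L₂) {g : T' ⟶ T} (β : thetaPts B L₂ T) {x : T' ⟶ A}
    (w : x ≫ m.f = g ≫ pt β) : ∃ γ : thetaPts A L₁ T', pt γ = x ∧ Rel m g γ β := by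
  have hβ : β.1.hom.base = (transl B (pt β)).left := over_pt β
  have hβ' : β.1.inv.base = (transl B (pt β)⁻¹).left := over_inv (over_pt β)
  have w' : x⁻¹ ≫ m.f = g ≫ (pt β)⁻¹ := by rw [GrpObj.inv_comp, w, GrpObj.comp_inv]
  have e1 : β.1.inv ≫ β.1.hom = 𝟙 _ := Iso.inv_hom_id β.1
  have e2 : β.1.hom ≫ β.1.inv = 𝟙 _ := Iso.hom_inv_id β.1
  let φ : thetaObj A L₁ T' ⟶ thetaObj A L₁ T' :=
    (m.isCart_FF g).lift (a' := thetaObj A L₁ T') (transl A x).left (m.FF g ≫ β.1.hom) (lift_aux w hβ)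
  let ψ : thetaObj A L₁ T' ⟶ thetaObj A L₁ T' :=
    (m.isCart_FF g).lift (a' := thetaObj A L₁ T') (transl A x⁻¹).left (m.FF g ≫ β.1.inv) (lift_aux w' hβ')
  have hφb : φ.base = (transl A x).left := (m.isCart_FF g).lift_base _ _ _
  have hψb : ψ.base = (transl A x⁻¹).left := (m.isCart_FF g).lift_base _ _ _
  have hφ : φ ≫ m.FF g = m.FF g ≫ β.1.hom := (m.isCart_FF g).lift_comp _ _ _
  have hψ : ψ ≫ m.FF g = m.FF g ≫ β.1.inv := (m.isCart_FF g).lift_comp _ _ _
  have h1 : φ ≫ ψ = 𝟙 _ := by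
    refine (m.isCart_FF g).ext ?_ ?_
    · change φ.base ≫ ψ.base = 𝟙 _
      rw [hφb, hψb, ← Over.comp_left, ← transl_mul, mul_inv_cancel, transl_one]
      rfl
    · rw [Category.assoc, hψ, ← Category.assoc, hφ, Category.assoc, e2, Category.comp_id, Category.id_comp]
  have h2 : ψ ≫ φ = 𝟙 _ := by
    refine (m.isCart_FF g).ext ?_ ?_
    · change ψ.base ≫ φ.base = 𝟙 _
      rw [hφb, hψb, ← Over.comp_left, ← transl_mul, inv_mul_cancel, transl_one]
      rfl
    · rw [Category.assoc, hφ, ← Category.assoc, hψ, Category.assoc, e1, Category.comp_id, Category.id_comp]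
  let γ : thetaPts A L₁ T' := ⟨(Iso.mk φ ψ h1 h2 : thetaObj A L₁ T' ≅ thetaObj A L₁ T'), x, hφb⟩
  exact ⟨γ, over_iff.mp hφb, hφ⟩

theorem rel_existsUnique (m : PMor A B L₁ L₂) {g : T' ⟶ T} (β : thetaPts B L₂ T) {x : T' ⟶ A}
    (w : x ≫ m.f = g ≫ pt β) : ∃! γ : thetaPts A L₁ T', pt γ = x ∧ Rel m g γ β := by
  obtain ⟨γ, h1, h2⟩ := rel_exists m β w
  exact ⟨γ, ⟨h1, h2⟩, fun γ' h => rel_unique h.2 h2 (h.1.trans h1.symm)⟩

end Rel

section Pull

variable {A B C : Over S} [GrpObj A] [GrpObj B] [GrpObj C] {L₁ : A.left.Modules} {L₂ : B.left.Modules}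
  {L₃ : C.left.Modules}

/-- The pull back of a theta point along `m`, over a given point. -/
def pull (m : PMor A B L₁ L₂) {T T' : Over S} (g : T' ⟶ T) (β : thetaPts B L₂ T) (x : T' ⟶ A)
    (w : x ≫ m.f = g ≫ pt β) : thetaPts A L₁ T' := (rel_exists m β w).choose

theorem pt_pull (m : PMor A B L₁ L₂) {T T' : Over S} (g : T' ⟶ T) (β : thetaPts B L₂ T) (x : T' ⟶ A)
    (w : x ≫ m.f = g ≫ pt β) : pt (pull m g β x w) = x := (rel_exists m β w).choose_spec.1

theorem rel_pull (m : PMor A B L₁ L₂) {T T' : Over S} (g : T' ⟶ T) (β : thetaPts B L₂ T) (x : T' ⟶ A)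
    (w : x ≫ m.f = g ≫ pt β) : Rel m g (pull m g β x w) β := (rel_exists m β w).choose_spec.2

theorem bc_aux {L : A.left.Modules} {T T' : Over S} (g : T' ⟶ T) (β : thetaPts A L T) :
    (g ≫ pt β) ≫ (PMor.id A L).f = g ≫ pt β := Category.comp_id _

theorem rel_id_pt {L : A.left.Modules} {T T' : Over S} {g : T' ⟶ T} {γ : thetaPts A L T'}
    {β : thetaPts A L T} (h : Rel (PMor.id A L) g γ β) : pt γ = g ≫ pt β := by
  rw [← rel_pt h]
  exact (Category.comp_id _).symm

/-- Base change of theta points. -/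
def bc {L : A.left.Modules} {T T' : Over S} (g : T' ⟶ T) : thetaPts A L T →* thetaPts A L T' where
  toFun β := pull (PMor.id A L) g β (g ≫ pt β) (bc_aux g β)
  map_one' := by
    refine rel_unique (rel_pull (PMor.id A L) g 1 _ _) rel_one ?_
    rw [pt_pull, pt_one, pt_one, comp_one]
  map_mul' β₁ β₂ := by
    refine rel_unique (rel_pull (PMor.id A L) g (β₁ * β₂) _ _)
      (rel_mul (rel_pull (PMor.id A L) g β₁ _ _) (rel_pull (PMor.id A L) g β₂ _ _)) ?_
    rw [pt_pull, pt_mul, pt_mul, pt_pull, pt_pull, comp_mul]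

theorem rel_bc {L : A.left.Modules} {T T' : Over S} (g : T' ⟶ T) (β : thetaPts A L T) :
    Rel (PMor.id A L) g (bc g β) β := rel_pull _ _ _ _ (bc_aux g β)

theorem pt_bc {L : A.left.Modules} {T T' : Over S} (g : T' ⟶ T) (β : thetaPts A L T) :
    pt (bc g β) = g ≫ pt β := pt_pull _ _ _ _ (bc_aux g β)

theorem rel_id_iff_bc {L : A.left.Modules} {T T' : Over S} {g : T' ⟶ T} {γ : thetaPts A L T'}
    {β : thetaPts A L T} : Rel (PMor.id A L) g γ β ↔ γ = bc g β := by
  constructor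
  · intro h
    exact rel_unique h (rel_bc g β) (by rw [rel_id_pt h, pt_bc])
  · rintro rfl
    exact rel_bc g β

theorem isBaseChange_iff {L : A.left.Modules} {T T' : Over S} {g : T' ⟶ T} {γ : thetaPts A L T'}
    {β : thetaPts A L T} : IsBaseChange γ g β ↔ γ = bc g β := by
  rw [← rel_id_iff, rel_id_iff_bc]

theorem bc_id {L : A.left.Modules} {T : Over S} (β : thetaPts A L T) : bc (𝟙 T) β = β := by
  symm
  rw [← isBaseChange_iff]
  change β.1.hom ≫ bcLift A L (𝟙 T) = bcLift A L (𝟙 T) ≫ β.1.hom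
  have : bcLift A L (𝟙 T) = 𝟙 _ := by
    refine (isCart_pr A L T).ext ?_ ?_
    · rw [bcLift_base, whiskerLeft_id]
      rfl
    · rw [bcLift_pr, Category.id_comp]
  rw [this, Category.comp_id, Category.id_comp]

theorem bc_bc {L : A.left.Modules} {T T' T'' : Over S} (g : T' ⟶ T) (g' : T'' ⟶ T') (β : thetaPts A L T) :
    bc g' (bc g β) = bc (g' ≫ g) β := by
  rw [← isBaseChange_iff]
  have h1 := isBaseChange_iff.mpr (rfl : bc g' (bc g β) = bc g' (bc g β))
  have h2 := isBaseChange_iff.mpr (rfl : bc g β = bc g β)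
  have h3 : bcLift A L (g' ≫ g) = bcLift A L g' ≫ bcLift A L g := by
    refine (isCart_pr A L T).ext ?_ ?_
    · change (A ◁ (g' ≫ g)).left = (A ◁ g').left ≫ (A ◁ g).left
      rw [← Over.comp_left, whiskerLeft_comp]
    · rw [Category.assoc, bcLift_pr, bcLift_pr, bcLift_pr]
  change _ ≫ bcLift A L (g' ≫ g) = bcLift A L (g' ≫ g) ≫ _
  change _ ≫ bcLift A L g' = bcLift A L g' ≫ _ at h1
  change _ ≫ bcLift A L g = bcLift A L g ≫ _ at h2
  rw [h3, ← Category.assoc, h1, Category.assoc, h2, Category.assoc]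

end Pull

end K999.Rel
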