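import Groth.Agent.ThetaGrp.K999.Pair

/-!
# Normalised lifts

Let `n : (A, P) ⟶ (C, Λ)` be a morphism of pairs and `σ₀` a compatible family of theta points of `P` over the points
`y ≫ i` (`i : K ⟶ A`).  If theta points of `Λ` exist over the points `y ≫ i ≫ n.f`, there is a unique compatible family
of such theta points pulling back to `σ₀`.
-/

set_option autoImplicit false
universe u

open CategoryTheory CategoryTheory.Limits MonoidalCategory CartesianMonoidalCategory MonObj AlgebraicGeometry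
open ThetaGrp K999.Cart K999.Rel K999.Ker K999.Act K999.EDesc K999.VIso K999.Scal K999.Mum K999.Sc K999.PtDesc
open K999.Perp

noncomputable section

namespace K999.Split

variable {S : Scheme.{u}} {A C K : Over S} [GrpObj A] [GrpObj C] [GrpObj K] [IsCommMonObj A] [IsCommMonObj C]
  {P : A.left.Modules} {Λ : C.left.Modules} (n : PMor A C P Λ) (hA : PushO A) (hC : PushO C)
  (hP : PicF.IsInvertible P) (hΛ : PicF.IsInvertible Λ)

include hP hC hΛ in
omit [IsCommMonObj A] [IsCommMonObj C] in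
/-- Theta points of `Λ` over the same point with the same pull back are equal. -/
theorem eq_of_rel {T : Over S} {γ : thetaPts A P T} {β β' : thetaPts C Λ T} (h : Rel n (𝟙 T) γ β)
    (h' : Rel n (𝟙 T) γ β') (hp : pt β = pt β') : β = β' := by
  obtain ⟨v, rfl⟩ := exists_sc_mul hC hΛ hp
  have e := rel_mul (rel_sc n (𝟙 T) v) h'
  have e' : γ = sc A P (pu (𝟙 T) v) * γ := rel_unique h e (by rw [pt_mul, pt_sc, _root_.mul_one])
  have e2 : sc A P (pu (𝟙 T) v) = sc A P 1 := by
    rw [sc_one]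
    exact (mul_eq_right.mp e'.symm)
  have e3 := sc_inj hP e2
  rw [pu_id] at e3
  rw [e3, sc_one, _root_.one_mul]

include hP hC hΛ hA in
omit [IsCommMonObj A] [IsCommMonObj C] hC hΛ in
/-- Existence of normalised theta points. -/
theorem exists_rel {T : Over S} (γ : thetaPts A P T) {z : T ⟶ C} (hz : pt γ ≫ n.f = z)
    (h : ∃ β : thetaPts C Λ T, pt β = z) : ∃ β : thetaPts C Λ T, pt β = z ∧ Rel n (𝟙 T) γ β := by
  obtain ⟨β₀, rfl⟩ := h
  have r := rel_pb (m := n) hz
  obtain ⟨v, hv⟩ := exists_sc_mul hA hP (β := γ) (β' := pb n β₀ (pt γ) hz) (by rw [pt_pb])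
  refine ⟨sc C Λ v * β₀, by rw [pt_mul, pt_sc, _root_.mul_one], ?_⟩
  have e := rel_mul (rel_sc n (𝟙 T) v) r
  rw [pu_id, ← hv] at e
  exact e

section Trivial

/-- The canonical lifts of all points to the theta group of the structure sheaf. -/
theorem exists_triv (A : Over S) [GrpObj A] : ∃ σ : ∀ {T : Over S}, (T ⟶ A) → thetaPts A (Coh.structureModule A.left) T,
    (∀ {T : Over S} (x : T ⟶ A), pt (σ x) = x) ∧
    (∀ {T T' : Over S} (h : T' ⟶ T) (x : T ⟶ A), bc h (σ x) = σ (h ≫ x)) ∧
    (∀ {T : Over S} (x y : T ⟶ A), σ (x * y) = σ y * σ x) := by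
  obtain ⟨e⟩ : Nonempty (Coh.structureModule A.left ≅
      (Scheme.Modules.pullback (toUnit A).left).obj (Coh.structureModule (𝟙_ (Over S)).left)) := by
    have h := map_one (Groth.Agent.Grpsch.PicGrp.pull (toUnit A).left)
    rw [Groth.Agent.Grpsch.PicGrp.one_def, Groth.Agent.Grpsch.PicGrp.one_def, Groth.Agent.Grpsch.PicGrp.pull_mk,
      Groth.Agent.Grpsch.PicGrp.mk_eq_iff] at h
    obtain ⟨e⟩ := h
    exact ⟨e.symm⟩
  let π : PMor A (𝟙_ (Over S)) (Coh.structureModule A.left) (Coh.structureModule (𝟙_ (Over S)).left) :=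
    (PMor.ofIso e).comp (PMor.ofHom (toUnit A) _)
  have w : ∀ {T : Over S} (x : T ⟶ A), x ≫ π.f = 1 := fun x => toUnit_unique _ _
  refine ⟨fun {T} x => can π x (w x), fun x => pt_can _, fun h x => ?_, fun x y => ?_⟩
  · rw [bc_can]
  · rw [can_mul]

end Trivial

end K999.Split
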