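import Groth.Agent.ThetaGrp.K999.GrpLike
import Groth.Agent.ThetaGrp.K999.Fun

/-!
# Symmetric 2-cocycles on finite commutative group schemes over an algebraically closed field

* `Cocycle c`: a normalised symmetric 2-cocycle `c : N × N → G_m`.
* `Cocycle.exists_coboundary`: it is a coboundary.
-/

set_option autoImplicit false
universe u

open CategoryTheory CategoryTheory.Limits MonoidalCategory CartesianMonoidalCategory MonObj AlgebraicGeometry
open scoped TensorProduct

noncomputable section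

namespace K999.Fun

variable {k : Type u} [Field k] (N : Over (Spec (CommRingCat.of k)))

section Ev

variable {N} {T : Over (Spec (CommRingCat.of k))}

/-- Evaluation of `a ⊗ b` at `(x, y)`. -/
def ev₂ (x y : T ⟶ N) : Fn N ⊗[k] Fn N →ₐ[k] Fn T :=
  Algebra.TensorProduct.lift (map x) (map y) (fun _ _ => Commute.all _ _)

theorem ev₂_tmul (x y : T ⟶ N) (a b : Fn N) : ev₂ x y (a ⊗ₜ b) = map x a * map y b :=
  Algebra.TensorProduct.lift_tmul _ _ _ _ _

/-- Evaluation of `a ⊗ (b ⊗ c)` at `(x, y, z)`. -/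
def ev₃ (x y z : T ⟶ N) : Fn N ⊗[k] (Fn N ⊗[k] Fn N) →ₐ[k] Fn T :=
  Algebra.TensorProduct.lift (map x) (ev₂ y z) (fun _ _ => Commute.all _ _)

theorem ev₃_tmul (x y z : T ⟶ N) (a : Fn N) (b : Fn N ⊗[k] Fn N) : ev₃ x y z (a ⊗ₜ b) = map x a * ev₂ y z b :=
  Algebra.TensorProduct.lift_tmul _ _ _ _ _

theorem ev₃_assoc (x y z : T ⟶ N) (t : Fn N ⊗[k] Fn N) (c : Fn N) :
    ev₃ x y z (TensorProduct.assoc k _ _ _ (t ⊗ₜ[k] c)) = ev₂ x y t * map z c := by
  induction t using TensorProduct.induction_on with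
  | zero => rw [TensorProduct.zero_tmul, map_zero, map_zero, map_zero, zero_mul]
  | tmul a b => rw [TensorProduct.assoc_tmul, ev₃_tmul, ev₂_tmul, ev₂_tmul, _root_.mul_assoc]
  | add a b ha hb => rw [TensorProduct.add_tmul, map_add, map_add, map_add, ha, hb, _root_.add_mul]

theorem ev₂_comm (x y : T ⟶ N) (t : Fn N ⊗[k] Fn N) : ev₂ x y (TensorProduct.comm k _ _ t) = ev₂ y x t := by
  induction t using TensorProduct.induction_on with
  | zero => rw [map_zero, map_zero, map_zero]
  | tmul a b => rw [TensorProduct.comm_tmul, ev₂_tmul, ev₂_tmul, _root_.mul_comm]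
  | add a b ha hb => rw [map_add, map_add, map_add, ha, hb]

theorem map_ev₂ {T' : Over (Spec (CommRingCat.of k))} (h : T' ⟶ T) (x y : T ⟶ N) (t : Fn N ⊗[k] Fn N) :
    map h (ev₂ x y t) = ev₂ (h ≫ x) (h ≫ y) t := by
  induction t using TensorProduct.induction_on with
  | zero => rw [map_zero, map_zero, map_zero]
  | tmul a b => rw [ev₂_tmul, ev₂_tmul, map_mul, map_comp, map_comp]
  | add a b ha hb => rw [map_add, map_add, map_add, ha, hb]

end Ev

section Aff

variable [IsAffine N.left]

theorem ev₂_univ (t : Fn N ⊗[k] Fn N) : ev₂ (fst N N) (snd N N) t = tens N N t := by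
  induction t using TensorProduct.induction_on with
  | zero => rw [map_zero, map_zero]
  | tmul a b => rw [ev₂_tmul, tens_tmul]
  | add a b ha hb => rw [map_add, map_add, ha, hb]

theorem ev₂_inj : Function.Injective (ev₂ (fst N N) (snd N N)) := by
  intro a b h
  rw [ev₂_univ, ev₂_univ] at h
  exact (tens N N).injective h

instance isAffine_tensor : IsAffine (N ⊗ N).left := by
  have h : IsAffine (pullback N.hom N.hom) := inferInstance
  exact h

/-- The comparison for three factors. -/
def tens₃ : Fn N ⊗[k] (Fn N ⊗[k] Fn N) ≃ₐ[k] Fn (N ⊗ (N ⊗ N)) :=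
  (Algebra.TensorProduct.congr (AlgEquiv.refl : Fn N ≃ₐ[k] Fn N) (tens N N)).trans (tens N (N ⊗ N))

theorem tens₃_tmul (a : Fn N) (b : Fn N ⊗[k] Fn N) : tens₃ N (a ⊗ₜ b) = map (fst N (N ⊗ N)) a *
    map (snd N (N ⊗ N)) (tens N N b) :=
  tens_tmul N (N ⊗ N) a (tens N N b)

theorem ev₃_inj : Function.Injective
    (ev₃ (fst N (N ⊗ N)) (snd N (N ⊗ N) ≫ fst N N) (snd N (N ⊗ N) ≫ snd N N)) := by
  have key : ∀ t, ev₃ (fst N (N ⊗ N)) (snd N (N ⊗ N) ≫ fst N N) (snd N (N ⊗ N) ≫ snd N N) t = tens₃ N t := by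
    intro t
    induction t using TensorProduct.induction_on with
    | zero => rw [map_zero, map_zero]
    | tmul a b => rw [ev₃_tmul, tens₃_tmul, ← map_ev₂, ev₂_univ]
    | add a b ha hb => rw [map_add, map_add, ha, hb]
  intro a b h
  rw [key, key] at h
  exact (tens₃ N).injective h

end Aff

variable [GrpObj N]

/-- The value at the unit. -/
def eps : Fn N →ₐ[k] k :=
  ((AlgEquiv.ofBijective (Algebra.ofId k (Fn (𝟙_ (Over (Spec (CommRingCat.of k)))))) bijective_algebraMap_unit).symm :
    Fn (𝟙_ (Over (Spec (CommRingCat.of k)))) →ₐ[k] k).comp (map η)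

theorem algebraMap_eps {T : Over (Spec (CommRingCat.of k))} (r : Fn N) :
    algebraMap k (Fn T) (eps N r) = map (1 : T ⟶ N) r := by
  have h1 : algebraMap k (Fn (𝟙_ (Over (Spec (CommRingCat.of k))))) (eps N r) = map η r :=
    (AlgEquiv.ofBijective (Algebra.ofId k (Fn (𝟙_ (Over (Spec (CommRingCat.of k))))))
      bijective_algebraMap_unit).apply_symm_apply (map η r)
  have h2 : (1 : T ⟶ N) = toUnit T ≫ η := rfl
  rw [h2, ← map_comp, ← h1, AlgHom.commutes]

/-- A normalised symmetric 2-cocycle with values in the multiplicative group. -/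
structure Cocycle where
  /-- the universal value -/
  c : (Fn (N ⊗ N))ˣ
  symm : ∀ {T : Over (Spec (CommRingCat.of k))} (x y : T ⟶ N), map (lift x y) c.1 = map (lift y x) c.1
  assoc : ∀ {T : Over (Spec (CommRingCat.of k))} (x y z : T ⟶ N),
    map (lift x y) c.1 * map (lift (x * y) z) c.1 = map (lift y z) c.1 * map (lift x (y * z)) c.1
  one_left : ∀ {T : Over (Spec (CommRingCat.of k))} (y : T ⟶ N), map (lift 1 y) c.1 = 1

namespace Cocycle

variable {N} (c : Cocycle N)

/-- The values of the cocycle. -/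
def val {T : Over (Spec (CommRingCat.of k))} (x y : T ⟶ N) : Fn T := map (lift x y) c.c.1

theorem val_symm {T : Over (Spec (CommRingCat.of k))} (x y : T ⟶ N) : c.val x y = c.val y x := c.symm x y

theorem val_assoc {T : Over (Spec (CommRingCat.of k))} (x y z : T ⟶ N) :
    c.val x y * c.val (x * y) z = c.val y z * c.val x (y * z) := c.assoc x y z

theorem val_one_left {T : Over (Spec (CommRingCat.of k))} (y : T ⟶ N) : c.val 1 y = 1 := c.one_left y

theorem val_one_right {T : Over (Spec (CommRingCat.of k))} (y : T ⟶ N) : c.val y 1 = 1 := by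
  rw [val_symm, val_one_left]

variable [IsAffine N.left]

/-- The twisted comultiplication. -/
def comul : Fn N →ₗ[k] Fn N ⊗[k] Fn N :=
  (tens N N).symm.toLinearMap ∘ₗ (LinearMap.mulLeft k c.c.1) ∘ₗ (map μ).toLinearMap

theorem tens_comul (r : Fn N) : tens N N (c.comul r) = c.c.1 * map μ r :=
  (tens N N).apply_symm_apply _

theorem ev₂_comul {T : Over (Spec (CommRingCat.of k))} (x y : T ⟶ N) (r : Fn N) :
    ev₂ x y (c.comul r) = c.val x y * map (x * y) r := by
  have h : ev₂ x y (c.comul r) = map (lift x y) (ev₂ (fst N N) (snd N N) (c.comul r)) := by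
    rw [map_ev₂, lift_fst, lift_snd]
  rw [h, ev₂_univ, tens_comul, map_mul, map_comp]
  rfl

theorem ev₃_rTensor {T : Over (Spec (CommRingCat.of k))} (x y z : T ⟶ N) (t : Fn N ⊗[k] Fn N) :
    ev₃ x y z (TensorProduct.assoc k _ _ _ (c.comul.rTensor (Fn N) t)) = c.val x y * ev₂ (x * y) z t := by
  induction t using TensorProduct.induction_on with
  | zero => rw [map_zero, map_zero, map_zero, map_zero, mul_zero]
  | tmul a b => rw [LinearMap.rTensor_tmul, ev₃_assoc, ev₂_comul, ev₂_tmul, _root_.mul_assoc]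
  | add a b ha hb => rw [map_add, map_add, map_add, map_add, ha, hb, _root_.mul_add]

theorem ev₃_lTensor {T : Over (Spec (CommRingCat.of k))} (x y z : T ⟶ N) (t : Fn N ⊗[k] Fn N) :
    ev₃ x y z (c.comul.lTensor (Fn N) t) = c.val y z * ev₂ x (y * z) t := by
  induction t using TensorProduct.induction_on with
  | zero => rw [map_zero, map_zero, map_zero, mul_zero]
  | tmul a b => rw [LinearMap.lTensor_tmul, ev₃_tmul, ev₂_comul, ev₂_tmul, mul_left_comm]
  | add a b ha hb => rw [map_add, map_add, map_add, ha, hb, _root_.mul_add]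

/-- The twisted coalgebra. -/
@[reducible] def coalgebra : Coalgebra k (Fn N) where
  comul := c.comul
  counit := (eps N).toLinearMap
  coassoc := by
    ext r
    apply ev₃_inj N
    change ev₃ _ _ _ (TensorProduct.assoc k _ _ _ (c.comul.rTensor (Fn N) (c.comul r))) =
      ev₃ _ _ _ (c.comul.lTensor (Fn N) (c.comul r))
    rw [ev₃_rTensor, ev₃_lTensor, ev₂_comul, ev₂_comul, ← _root_.mul_assoc, ← _root_.mul_assoc, val_assoc,
      _root_.mul_assoc (_ : _ ⟶ N)]
  rTensor_counit_comp_comul := by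
    ext r
    apply (TensorProduct.lid k (Fn N)).injective
    change TensorProduct.lid k (Fn N) ((eps N).toLinearMap.rTensor (Fn N) (c.comul r)) =
      TensorProduct.lid k (Fn N) ((1 : k) ⊗ₜ r)
    have key : ∀ t : Fn N ⊗[k] Fn N, TensorProduct.lid k (Fn N) ((eps N).toLinearMap.rTensor (Fn N) t) =
        ev₂ (1 : N ⟶ N) (𝟙 N) t := by
      intro t
      induction t using TensorProduct.induction_on with
      | zero => rw [map_zero, map_zero, map_zero]
      | tmul a b =>
        rw [LinearMap.rTensor_tmul, TensorProduct.lid_tmul, ev₂_tmul, ← algebraMap_eps, Algebra.smul_def, map_id]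
        rfl
      | add a b ha hb => rw [map_add, map_add, map_add, ha, hb]
    rw [key, ev₂_comul, val_one_left, TensorProduct.lid_tmul, _root_.one_mul, _root_.one_mul, map_id, one_smul]
  lTensor_counit_comp_comul := by
    ext r
    apply (TensorProduct.rid k (Fn N)).injective
    change TensorProduct.rid k (Fn N) ((eps N).toLinearMap.lTensor (Fn N) (c.comul r)) =
      TensorProduct.rid k (Fn N) (r ⊗ₜ (1 : k))
    have key : ∀ t : Fn N ⊗[k] Fn N, TensorProduct.rid k (Fn N) ((eps N).toLinearMap.lTensor (Fn N) t) =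
        ev₂ (𝟙 N) (1 : N ⟶ N) t := by
      intro t
      induction t using TensorProduct.induction_on with
      | zero => rw [map_zero, map_zero, map_zero]
      | tmul a b =>
        rw [LinearMap.lTensor_tmul, TensorProduct.rid_tmul, ev₂_tmul, ← algebraMap_eps, Algebra.smul_def, map_id,
          _root_.mul_comm]
        rfl
      | add a b ha hb => rw [map_add, map_add, map_add, ha, hb]
    rw [key, ev₂_comul, val_one_right, TensorProduct.rid_tmul, _root_.one_mul, _root_.mul_one, map_id, one_smul]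

instance nontrivial : Nontrivial (Fn N) := by
  refine ⟨0, 1, fun h => ?_⟩
  have h1 := congrArg (eps N) h
  rw [map_zero, map_one] at h1
  exact zero_ne_one h1

/-- Symmetric cocycles are coboundaries. -/
theorem exists_coboundary [IsAlgClosed k] [Module.Finite k (Fn N)] (hN : ∀ {T : Over (Spec (CommRingCat.of k))}
    (x y : T ⟶ N), x * y = y * x) :
    ∃ b : (Fn N)ˣ, ∀ {T : Over (Spec (CommRingCat.of k))} (x y : T ⟶ N),
      map x b.1 * map y b.1 = c.val x y * map (x * y) b.1 := by
  let _ : Coalgebra k (Fn N) := c.coalgebra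
  have _ : Coalgebra.IsCocomm k (Fn N) := ⟨by
    ext r
    apply ev₂_inj N
    change ev₂ _ _ (TensorProduct.comm k _ _ (c.comul r)) = ev₂ _ _ (c.comul r)
    rw [ev₂_comm, ev₂_comul, ev₂_comul, val_symm, hN]⟩
  obtain ⟨b, hb1, hb2⟩ := K999.GrpLike.exists_groupLike (k := k) (C := Fn N)
  have key : ∀ {T : Over (Spec (CommRingCat.of k))} (x y : T ⟶ N),
      map x b * map y b = c.val x y * map (x * y) b := by
    intro T x y
    rw [← ev₂_comul, ← ev₂_tmul]
    congr 1
    exact hb2.symm
  have hu : IsUnit b := by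
    have h1 := key (𝟙 N) (𝟙 N)⁻¹
    rw [mul_inv_cancel, ← algebraMap_eps] at h1
    have h2 : eps N b = 1 := hb1
    rw [h2, map_one, _root_.mul_one, map_id] at h1
    have h3 : IsUnit (c.val (𝟙 N) (𝟙 N)⁻¹) := c.c.isUnit.map (map (lift (𝟙 N) (𝟙 N)⁻¹))
    rw [← h1] at h3
    exact isUnit_of_mul_isUnit_left h3
  obtain ⟨b, rfl⟩ := hu
  exact ⟨b, key⟩

end Cocycle

end K999.Fun
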